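import Cfsg.Agent.H196.AltMain
import Cfsg.Agent.H191.AltElts

/-!
# Elements and sections of alternating groups
-/

set_option autoImplicit false

namespace Cfsg.Agent.H196.AltElt

open Subgroup Equiv Cfsg.Agent.H196.AltInd

/-- An element of order dividing `p` of the alternating group of degree `q + 5` commuting with a nonsolvable group. -/
theorem exists_elt (q p : ℕ) (hq : 3 ≤ q) (hqp : q ∣ 2 * p) :
    ∃ (c : alternatingGroup (Fin (q + 5))) (D : Subgroup (alternatingGroup (Fin (q + 5)))), c ≠ 1 ∧ c ^ p = 1 ∧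
      (∀ d ∈ D, d * c = c * d) ∧ ¬ Group.IsSolvable D ∧ Nat.card D ∣ 120 := by
  let e : Fin q ⊕ Fin 5 ≃ Fin (q + 5) := finSumFinEquiv
  let F : Perm (Fin q) × Perm (Fin 5) →* Perm (Fin (q + 5)) :=
    (e.permCongrHom.toMonoidHom).comp (Perm.sumCongrHom (Fin q) (Fin 5))
  have hF : Function.Injective F := by
    intro a b hab
    exact Perm.sumCongrHom_injective (e.permCongrHom.injective hab)
  have hord : orderOf (finRotate q) = q := by
    rw [(_root_.isCycle_finRotate_of_le (by omega)).orderOf, support_finRotate_of_le (by omega)]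
    simp
  let r : Perm (Fin (q + 5)) := F (finRotate q, 1)
  have hr : r ^ q = 1 := by
    show F (finRotate q, 1) ^ q = 1
    have h1 : (finRotate q) ^ q = 1 := orderOf_dvd_iff_pow_eq_one.1 (by rw [hord])
    rw [← map_pow, Prod.pow_mk, one_pow, h1]
    exact map_one F
  have hr2 : r ^ 2 ≠ 1 := by
    intro h
    have h1 : F ((finRotate q) ^ 2, 1) = 1 := by
      rw [← h]
      show _ = F (finRotate q, 1) ^ 2
      rw [← map_pow, Prod.pow_mk, one_pow]
    have h2 := hF (h1.trans (map_one F).symm)
    have h3 : (finRotate q) ^ 2 = 1 := congrArg Prod.fst h2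
    have h4 := orderOf_dvd_of_pow_eq_one h3
    rw [hord] at h4
    have := Nat.le_of_dvd (by norm_num) h4
    omega
  have hsign : r ^ 2 ∈ alternatingGroup (Fin (q + 5)) := by
    rw [Perm.mem_alternatingGroup, map_pow]
    rcases Int.units_eq_one_or (Perm.sign r) with h | h <;> rw [h] <;> rfl
  let G5 : Perm (Fin 5) →* Perm (Fin (q + 5)) := F.comp (MonoidHom.inr _ _)
  have hG5 : Function.Injective G5 := by
    intro a b hab
    exact congrArg Prod.snd (hF hab)
  have hX : ¬ Group.IsSolvable G5.range := fun h => Perm.not_isSolvable_fin_5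
    (Group.isSolvable_of_isSolvable_injective (f := (MonoidHom.ofInjective hG5).toMonoidHom)
      (MonoidHom.ofInjective hG5).injective)
  refine ⟨⟨r ^ 2, hsign⟩, G5.range.comap (alternatingGroup (Fin (q + 5))).subtype, ?_, ?_, ?_, ?_, ?_⟩
  · exact fun h => hr2 (congrArg Subtype.val h)
  · apply Subtype.ext
    show (r ^ 2) ^ p = 1
    rw [← pow_mul]
    obtain ⟨k, hk⟩ := hqp
    rw [hk, pow_mul, hr, one_pow]
  · rintro ⟨d, hd⟩ ⟨σ, hσ⟩
    apply Subtype.ext
    show d * r ^ 2 = r ^ 2 * d
    have h1 : d = F (1, σ) := hσ.symm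
    have h2 : r ^ 2 = F (finRotate q ^ 2, 1) := by
      show F (finRotate q, 1) ^ 2 = _
      rw [← map_pow, Prod.pow_mk, one_pow]
    rw [h1, h2, ← map_mul, ← map_mul, Prod.mk_mul_mk, Prod.mk_mul_mk]
    simp
  · exact not_solvable_alt _ hX
  · have h1 : Nat.card G5.range = 120 := by
      rw [← Nat.card_congr (MonoidHom.ofInjective hG5).toEquiv, Nat.card_eq_fintype_card, Fintype.card_perm,
        Fintype.card_fin]
      rfl
    rw [← h1]
    let g : (G5.range.comap (alternatingGroup (Fin (q + 5))).subtype) →* G5.range :=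
      ((alternatingGroup (Fin (q + 5))).subtype.comp
        (G5.range.comap (alternatingGroup (Fin (q + 5))).subtype).subtype).codRestrict G5.range fun x => x.2
    refine Subgroup.card_dvd_of_injective g fun a b hab => ?_
    have hab' := congrArg Subtype.val hab
    exact Subtype.ext (Subtype.ext hab')

/-- Sections: smaller alternating groups. -/
theorem exists_section {L : Type*} [Group L] {d m : ℕ} (φ : L →* alternatingGroup (Fin d))
    (hφ : Function.Surjective φ) (hm : m ≤ d) :
    ∃ (H : Subgroup L) (ψ : H →* alternatingGroup (Fin m)), Function.Surjective ψ := by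
  let f := Cfsg.Agent.H191.AltElts.embAlt hm
  have hf : Function.Injective f := Cfsg.Agent.H191.AltElts.embAlt_injective hm
  let g : (f.range.comap φ) →* f.range := (φ.comp (f.range.comap φ).subtype).codRestrict f.range fun x => x.2
  have hg : Function.Surjective g := by
    rintro ⟨s, hs⟩
    obtain ⟨x, rfl⟩ := hφ s
    exact ⟨⟨x, hs⟩, rfl⟩
  refine ⟨f.range.comap φ, ((MonoidHom.ofInjective hf).symm.toMonoidHom).comp g, ?_⟩
  exact (MonoidHom.ofInjective hf).symm.surjective.comp hg

end Cfsg.Agent.H196.AltElt
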