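import Cfsg.Agent.H196.NF

/-!
# From modules of an alternating section to modules of the symmetric group

`Cfsg.Agent.H196.AltInd.exists_fixed`: if every module of characteristic `p` of the symmetric group of degree `m`
without vectors fixed by nonsolvable subgroups vanishes, then a nonzero module of characteristic `p` for the alternating
group of degree `m` has a nonzero vector fixed by a nonsolvable subgroup.
-/

set_option autoImplicit false

universe u

namespace Cfsg.Agent.H196.AltInd

open Subgroup Equiv Cfsg.Agent.H196.GA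

section

variable {m : ℕ} {H : Type*} [Group H] {A : Type u} [AddCommGroup A] (φ : H →* alternatingGroup (Fin m))
  (ρ : H →* AddMonoid.End A)

/-- the induced module -/
def Ind : AddSubgroup (Perm (Fin m) → A) where
  carrier := {f | ∀ (h : H) (g : Perm (Fin m)), f ((φ h : Perm (Fin m)) * g) = ρ h (f g)}
  add_mem' := fun {a b} ha hb h g => by
    simp only [Pi.add_apply, map_add, ha h g, hb h g]
  zero_mem' := fun h g => by simp
  neg_mem' := fun {a} ha h g => by simp only [Pi.neg_apply, map_neg, ha h g]

/-- right translations -/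
instance : DistribMulAction (Perm (Fin m)) (Ind φ ρ) where
  smul s f := ⟨fun g => f.1 (g * s), fun h g => by
    show f.1 ((φ h : Perm (Fin m)) * g * s) = _
    rw [mul_assoc]
    exact f.2 h (g * s)⟩
  one_smul f := Subtype.ext (funext fun g => by
    show f.1 (g * 1) = f.1 g
    rw [mul_one])
  mul_smul s t f := Subtype.ext (funext fun g => by
    show f.1 (g * (s * t)) = f.1 (g * s * t)
    rw [mul_assoc])
  smul_zero s := rfl
  smul_add s f f' := rfl

theorem smul_apply (s : Perm (Fin m)) (f : Ind φ ρ) (g : Perm (Fin m)) : (s • f).1 g = f.1 (g * s) := rfl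

/-- The intersection of a nonsolvable group of permutations with the alternating group is not solvable. -/
theorem not_solvable_alt (X : Subgroup (Perm (Fin m))) (hX : ¬ Group.IsSolvable X) :
    ¬ Group.IsSolvable (X.comap (alternatingGroup (Fin m)).subtype) := by
  intro hs
  apply hX
  let f : X.comap (alternatingGroup (Fin m)).subtype →* X :=
    ((alternatingGroup (Fin m)).subtype.comp (X.comap (alternatingGroup (Fin m)).subtype).subtype).codRestrict X
      fun x => x.2
  refine Group.isSolvable_of_ker_le_range f ((Perm.sign).comp X.subtype) ?_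
  rintro ⟨x, hx⟩ hx'
  have h1 : Perm.sign x = 1 := hx'
  exact ⟨⟨⟨x, Perm.mem_alternatingGroup.2 h1⟩, hx⟩, rfl⟩

theorem exists_fixed {p : ℕ} (hker : ∀ h ∈ φ.ker, ∀ a, ρ h a = a)
    (hp : ∀ a : A, p • a = 0)
    (hmod : ∀ (V : Type u) [AddCommGroup V] [DistribMulAction (Perm (Fin m)) V], (∀ v : V, p • v = 0) →
      NF m V → ∀ v : V, v = 0) {a₀ : A} (ha₀ : a₀ ≠ 0) :
    ∃ a : A, a ≠ 0 ∧ ∃ Y : Subgroup (alternatingGroup (Fin m)), ¬ Group.IsSolvable Y ∧
      ∀ h, φ h ∈ Y → ρ h a = a := by
  classical
  by_contra hcon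
  push Not at hcon
  have hNF : NF m (Ind φ ρ) := by
    intro s t hst f hs ht
    by_contra hf
    have hX : ∀ x ∈ closure ({s, t} : Set (Perm (Fin m))), x • f = f := by
      intro x hx
      induction hx using closure_induction with
      | mem z hz =>
        rcases hz with rfl | rfl
        · exact hs
        · exact ht
      | one => exact one_smul _ _
      | mul z z' _ _ h1 h2 => rw [mul_smul, h2, h1]
      | inv z _ h1 => rw [inv_smul_eq_iff, h1]
    obtain ⟨g, hg⟩ : ∃ g, f.1 g ≠ 0 := by
      by_contra h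
      push Not at h
      exact hf (Subtype.ext (funext h))
    let X' := (closure ({s, t} : Set (Perm (Fin m)))).map (MulAut.conj g).toMonoidHom
    have hX' : ¬ Group.IsSolvable X' := fun h => hst (by
      exact Group.isSolvable_of_isSolvable_injective
        (f := ((closure ({s, t} : Set (Perm (Fin m)))).equivMapOfInjective (MulAut.conj g).toMonoidHom
          (MulAut.conj g).injective).toMonoidHom) (MulEquiv.injective _))
    obtain ⟨h, hh, hne⟩ := hcon (f.1 g) hg _ (not_solvable_alt X' hX')
    apply hne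
    obtain ⟨x, hx, hx'⟩ := hh
    have h1 : ((φ h : Perm (Fin m))) = g * x * g⁻¹ := hx'.symm
    have h2 := f.2 h g
    rw [← h2, h1]
    have h3 : g * x * g⁻¹ * g = g * x := by group
    rw [h3]
    have h4 := congrArg (fun q : Ind φ ρ => q.1 g) (hX x hx)
    exact h4
  have hpF : ∀ f : Ind φ ρ, p • f = 0 := fun f => Subtype.ext (funext fun g => hp (f.1 g))
  -- a nonzero element
  have hindep : ∀ x y : H, φ x = φ y → ρ x a₀ = ρ y a₀ := by
    intro x y hxy
    have h1 : x * y⁻¹ ∈ φ.ker := by rw [MonoidHom.mem_ker, map_mul, map_inv, hxy, mul_inv_cancel]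
    have h2 := hker _ h1 (ρ y a₀)
    rw [← h2]
    show ρ x a₀ = (ρ (x * y⁻¹) * ρ y) a₀
    rw [← map_mul, inv_mul_cancel_right]
  let f₀ : Perm (Fin m) → A := fun g => if h : ∃ x : H, (φ x : Perm (Fin m)) = g then ρ (Classical.choose h) a₀ else 0
  have hf₀ : ∀ x : H, f₀ (φ x : Perm (Fin m)) = ρ x a₀ := by
    intro x
    have h : ∃ y : H, (φ y : Perm (Fin m)) = φ x := ⟨x, rfl⟩
    show (if h : ∃ y : H, (φ y : Perm (Fin m)) = φ x then ρ (Classical.choose h) a₀ else 0) = _
    rw [dif_pos h]
    exact hindep _ _ (Subtype.ext (Classical.choose_spec h))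
  have hmem : f₀ ∈ Ind φ ρ := by
    intro h g
    by_cases hg : ∃ x : H, (φ x : Perm (Fin m)) = g
    · obtain ⟨x, rfl⟩ := hg
      have e : (φ h : Perm (Fin m)) * (φ x : Perm (Fin m)) = (φ (h * x) : Perm (Fin m)) := by
        rw [map_mul]
        rfl
      rw [e, hf₀, hf₀, map_mul]
      rfl
    · have hg' : ¬ ∃ x : H, (φ x : Perm (Fin m)) = (φ h : Perm (Fin m)) * g := by
        rintro ⟨x, hx⟩
        apply hg
        refine ⟨h⁻¹ * x, ?_⟩
        rw [map_mul, map_inv]
        show (φ h : Perm (Fin m))⁻¹ * (φ x : Perm (Fin m)) = g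
        rw [hx, inv_mul_cancel_left]
      show (if h : _ then _ else _) = ρ h (if h : _ then _ else _)
      rw [dif_neg hg, dif_neg hg', map_zero]
  have h0 := hmod (Ind φ ρ) hpF hNF ⟨f₀, hmem⟩
  apply ha₀
  have h1 : f₀ 1 = 0 := congrArg (fun q : Ind φ ρ => q.1 1) h0
  have h2 := hf₀ 1
  rw [map_one, map_one] at h2
  have h3 : ((1 : alternatingGroup (Fin m)) : Perm (Fin m)) = 1 := rfl
  rw [h3, h1] at h2
  exact h2.symm

end

end Cfsg.Agent.H196.AltInd
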