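import Cfsg.Agent.S0026
import Cfsg.Agent.Lib.NormalAbelian

/-!
# Lifting elements of prime power order together with nonsolvable centralizers
-/

set_option autoImplicit false

namespace Cfsg.Agent.H196.AltLift

open Subgroup

open scoped commutatorElement

/-- If `v` commutes modulo the center with the elements of a nonsolvable subgroup, its centralizer is not solvable. -/
theorem not_solvable_of_central {H : Type*} [Group H] (D : Subgroup H) (hD : ¬ Group.IsSolvable D) (v : H)
    (hc : ∀ d ∈ D, v * d * v⁻¹ * d⁻¹ ∈ center H) : ¬ Group.IsSolvable (centralizer ({v} : Set H)) := by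
  intro hs
  apply hD
  let ψ : D →* center H :=
    { toFun := fun d => ⟨v * d * v⁻¹ * (d : H)⁻¹, hc d d.2⟩
      map_one' := by
        apply Subtype.ext
        simp
      map_mul' := fun c d => by
        apply Subtype.ext
        have hd := mem_center_iff.1 (hc d d.2)
        show v * ((c : H) * d) * v⁻¹ * ((c : H) * d)⁻¹ = v * c * v⁻¹ * (c : H)⁻¹ * (v * d * v⁻¹ * (d : H)⁻¹)
        have e1 : v * ((c : H) * d) * v⁻¹ * ((c : H) * d)⁻¹ =
            (v * c * v⁻¹) * ((v * d * v⁻¹ * (d : H)⁻¹) * (c : H)⁻¹) := by group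
        rw [e1, ← hd (c : H)⁻¹]
        group }
  have h1 : Group.IsSolvable ψ.ker := by
    refine Group.isSolvable_of_isSolvable_injective
      (f := ((D.subtype.comp ψ.ker.subtype).codRestrict (centralizer ({v} : Set H)) fun k => ?_)) ?_
    · rw [mem_centralizer_singleton_iff]
      have hk : ψ k = 1 := k.2
      have hk' : v * (k : D) * v⁻¹ * ((k : D) : H)⁻¹ = 1 := congrArg Subtype.val hk
      show ((k : D) : H) * v = v * ((k : D) : H)
      rw [mul_inv_eq_one, mul_inv_eq_iff_eq_mul] at hk'
      exact hk'.symm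
    · intro a b hab
      have := congrArg Subtype.val hab
      exact Subtype.ext (Subtype.ext this)
  have h2 : Group.IsSolvable (center H) :=
    Group.isSolvable_of_comm fun a b => Subtype.ext (mem_center_iff.1 a.2 b).symm
  exact Group.isSolvable_of_ker_le_range (ψ.ker.subtype) ψ (by rw [range_subtype])

/-- A group with a solvable subgroup containing a normal solvable subgroup … : `N` is solvable if `N = P L` with `P`
normal and solvable and `L` solvable. -/
theorem solvable_of_sup {N : Type*} [Group N] (P L : Subgroup N) [P.Normal] (hP : Group.IsSolvable P)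
    (hL : Group.IsSolvable L) (h : P ⊔ L = ⊤) : Group.IsSolvable N := by
  rw [Group.isSolvable_iff_subgroup_quotient P]
  refine ⟨hP, ?_⟩
  have : Function.Surjective ((QuotientGroup.mk' P).comp L.subtype) := by
    intro q
    obtain ⟨g, rfl⟩ := QuotientGroup.mk'_surjective P q
    have hg : g ∈ P ⊔ L := h ▸ mem_top g
    obtain ⟨a, ha, b, hb, rfl⟩ := (mem_sup_of_normal_left).1 hg
    refine ⟨⟨b, hb⟩, ?_⟩
    show (QuotientGroup.mk' P) b = _
    rw [map_mul]
    have : (QuotientGroup.mk' P) a = 1 := (QuotientGroup.eq_one_iff a).2 ha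
    rw [this, one_mul]
  exact Group.isSolvable_of_surjective this

/-- Frattini argument above a central element of prime power order. -/
theorem frattini_arg {H S : Type*} [Group H] [Finite H] [Group S] (φ : H →* S) (hφ : Function.Surjective φ) {p : ℕ}
    [Fact p.Prime] (c : S) (hcp : ∃ k, orderOf c = p ^ k) (hcc : c ∈ center S) (hS : ¬ Group.IsSolvable S) :
    ∃ P : Subgroup H, IsPGroup p P ∧ P ≤ (zpowers c).comap φ ∧ ¬ p ∣ P.relIndex ((zpowers c).comap φ) ∧
      normalizer (P : Set H) ⊔ (zpowers c).comap φ = ⊤ ∧ (∃ x ∈ P, φ x = c) ∧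
      ¬ Group.IsSolvable (normalizer (P : Set H)) := by
  have hzc : zpowers c ≤ center S := zpowers_le.2 hcc
  have hn : (zpowers c).Normal := ⟨fun n hn g => by
    have := mem_center_iff.1 (hzc hn) g
    rw [this, mul_inv_cancel_right]
    exact hn⟩
  have : Finite S := Finite.of_surjective φ hφ
  set H1 := (zpowers c).comap φ with hH1
  have hn1 : H1.Normal := hn.comap φ
  obtain ⟨P⟩ : Nonempty (Sylow p H1) := inferInstance
  have hfr := Sylow.normalizer_sup_eq_top P
  have hle : (P : Subgroup H1).map H1.subtype ≤ H1 := map_subtype_le _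
  have hx : ∃ x ∈ (P : Subgroup H1).map H1.subtype, φ x = c := by
    let f : H1 →* zpowers c := (φ.comp H1.subtype).codRestrict (zpowers c) fun x => x.2
    have hf : Function.Surjective f := by
      rintro ⟨s, hs⟩
      obtain ⟨h, rfl⟩ := hφ s
      exact ⟨⟨h, hs⟩, rfl⟩
    have htop : ((P.mapSurjective hf : Sylow p (zpowers c)) : Subgroup (zpowers c)) = ⊤ := by
      have hpg : IsPGroup p (zpowers c) := by
        obtain ⟨k, hk⟩ := hcp
        exact IsPGroup.of_card (by rw [Nat.card_zpowers, hk])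
      have : IsPGroup p (⊤ : Subgroup (zpowers c)) := hpg.to_subgroup ⊤
      exact ((P.mapSurjective hf).is_maximal' this le_top).symm
    have hc : (⟨c, mem_zpowers c⟩ : zpowers c) ∈ ((P.mapSurjective hf : Sylow p (zpowers c)) :
        Subgroup (zpowers c)) := htop ▸ mem_top _
    rw [Sylow.coe_mapSurjective] at hc
    obtain ⟨y, hy, hy'⟩ := hc
    exact ⟨y, ⟨y, hy, rfl⟩, congrArg Subtype.val hy'⟩
  refine ⟨(P : Subgroup H1).map H1.subtype, P.2.map _, hle, ?_, hfr, hx, ?_⟩
  · have e : ((P : Subgroup H1).map H1.subtype).relIndex H1 = (P : Subgroup H1).index := by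
      rw [relIndex, subgroupOf, comap_map_eq_self_of_injective H1.subtype_injective]
    rw [e]
    exact P.not_dvd_index
  · intro hs
    apply hS
    rw [Group.isSolvable_iff_subgroup_quotient (zpowers c)]
    refine ⟨Group.isSolvable_of_comm fun a b => ?_, ?_⟩
    · exact Subtype.ext (mem_center_iff.1 (hzc a.2) b).symm
    · have hsur : Function.Surjective (((QuotientGroup.mk' (zpowers c)).comp φ).comp
          (normalizer (((P : Subgroup H1).map H1.subtype : Subgroup H) : Set H)).subtype) := by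
        intro q
        obtain ⟨s, rfl⟩ := QuotientGroup.mk'_surjective _ q
        obtain ⟨h, rfl⟩ := hφ s
        have hh : h ∈ normalizer (((P : Subgroup H1).map H1.subtype : Subgroup H) : Set H) ⊔ H1 := hfr ▸ mem_top h
        obtain ⟨a, ha, b, hb, rfl⟩ := (mem_sup_of_normal_right).1 hh
        refine ⟨⟨a, ha⟩, ?_⟩
        show QuotientGroup.mk' (zpowers c) (φ a) = _
        rw [map_mul φ, map_mul]
        have : QuotientGroup.mk' (zpowers c) (φ b) = 1 := (QuotientGroup.eq_one_iff _).2 hb
        rw [this, mul_one]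
      exact Group.isSolvable_of_surjective hsur

/-- Lifting when the elements of `p`-power order of the kernel are central. -/
theorem lift_central_aux {H S : Type*} [Group H] [Finite H] [Group S] (φ : H →* S) (hφ : Function.Surjective φ)
    {p : ℕ} [Fact p.Prime] (hker : ∀ x ∈ φ.ker, (∃ k, orderOf x = p ^ k) → x ∈ center H) (c : S)
    (hcp : ∃ k, orderOf c = p ^ k) (hcc : c ∈ center S) (hS : ¬ Group.IsSolvable S) :
    ∃ y : H, φ y = c ∧ (∃ k, orderOf y = p ^ k) ∧ ¬ Group.IsSolvable (centralizer ({y} : Set H)) := by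
  obtain ⟨P, hP, -, -, -, ⟨x, hx, hxc⟩, hns⟩ := frattini_arg φ hφ c hcp hcc hS
  have hpe : ∀ z ∈ P, ∃ k, orderOf z = p ^ k := by
    intro z hz
    obtain ⟨k, hk⟩ := IsPGroup.iff_orderOf.1 hP ⟨z, hz⟩
    exact ⟨k, by rw [← hk, orderOf_mk]⟩
  refine ⟨x, hxc, hpe x hx, not_solvable_of_central _ hns x fun n hn => ?_⟩
  have h1 : x * n * x⁻¹ * n⁻¹ ∈ P := by
    have : x * n * x⁻¹ * n⁻¹ = x * (n * x⁻¹ * n⁻¹) := by group
    rw [this]
    exact P.mul_mem hx ((mem_normalizer_iff.1 hn _).1 (P.inv_mem hx))
  refine hker _ ?_ (hpe _ h1)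
  rw [MonoidHom.mem_ker, map_mul, map_mul, map_mul, hxc, map_inv, map_inv, hxc]
  rw [← mem_center_iff.1 hcc (φ n)]
  group

/-- Lifting when the nonsolvable group has order prime to `p`. -/
theorem lift_coprime_aux {H S : Type*} [Group H] [Finite H] [Group S] (φ : H →* S) (hφ : Function.Surjective φ)
    {p : ℕ} [hp : Fact p.Prime] (c : S) (hcp : ∃ k, orderOf c = p ^ k) (hcc : c ∈ center S)
    (hS : ¬ Group.IsSolvable S) (hSp : ¬ p ∣ (zpowers c).index) :
    ∃ y : H, φ y = c ∧ (∃ k, orderOf y = p ^ k) ∧ ¬ Group.IsSolvable (centralizer ({y} : Set H)) := by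
  obtain ⟨P, hP, hPH, hPi, hfr, ⟨x, hx, hxc⟩, hns⟩ := frattini_arg φ hφ c hcp hcc hS
  have hzc : zpowers c ≤ center S := zpowers_le.2 hcc
  have hn : (zpowers c).Normal := ⟨fun n hn g => by
    have := mem_center_iff.1 (hzc hn) g
    rw [this, mul_inv_cancel_right]
    exact hn⟩
  have hn1 : ((zpowers c).comap φ).Normal := hn.comap φ
  have hpe : ∀ z ∈ P, ∃ k, orderOf z = p ^ k := by
    intro z hz
    obtain ⟨k, hk⟩ := IsPGroup.iff_orderOf.1 hP ⟨z, hz⟩
    exact ⟨k, by rw [← hk, orderOf_mk]⟩
  set N := normalizer (P : Set H) with hN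
  have hPN : P ≤ N := le_normalizer
  -- the index of `P` in `N` is prime to `p`
  have hidx : ¬ p ∣ P.relIndex N := by
    have h1 : P.relIndex N ∣ P.relIndex ((zpowers c).comap φ) * ((zpowers c).comap φ).relIndex N := by
      have h2 := relIndex_inf_mul_relIndex P ((zpowers c).comap φ) N
      rw [inf_of_le_left hPH] at h2
      rw [← h2]
      apply Nat.mul_dvd_mul_right
      have h3 : P.relIndex ((zpowers c).comap φ ⊓ N) ∣ P.relIndex ((zpowers c).comap φ) := by
        have h4 := relIndex_mul_relIndex P ((zpowers c).comap φ ⊓ N) ((zpowers c).comap φ) (le_inf hPH hPN) inf_le_left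
        exact ⟨_, h4.symm⟩
      exact h3
    intro h2
    rcases (hp.out.dvd_mul).1 (h2.trans h1) with h3 | h3
    · exact hPi h3
    · apply hSp
      have h4 : ((zpowers c).comap φ).relIndex N ∣ ((zpowers c).comap φ).index :=
        relIndex_dvd_index_of_normal _ _
      rw [index_comap_of_surjective _ hφ] at h4
      exact h3.trans h4
  have hnP : (P.subgroupOf N).Normal := normal_in_normalizer
  have hcop : Nat.Coprime (Nat.card (P.subgroupOf N)) (P.subgroupOf N).index := by
    have hPs : IsPGroup p (P.subgroupOf N) := hP.comap_of_injective N.subtype N.subtype_injective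
    obtain ⟨k, hk⟩ := IsPGroup.iff_card.1 hPs
    rw [hk]
    exact Nat.Coprime.pow_left _ ((Nat.Prime.coprime_iff_not_dvd hp.out).2 hidx)
  obtain ⟨L, hL⟩ := exists_right_complement'_of_coprime hcop
  have hPsol : Group.IsSolvable (P.subgroupOf N) := by
    have hPs : IsPGroup p (P.subgroupOf N) := hP.comap_of_injective N.subtype N.subtype_injective
    have := hPs.isNilpotent
    infer_instance
  have hLns : ¬ Group.IsSolvable L := fun hs => hns (solvable_of_sup _ L hPsol hs hL.sup_eq_top)
  set L' := L.map N.subtype with hL'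
  have hLns' : ¬ Group.IsSolvable L' := fun hs => hLns (by
    have e := L.equivMapOfInjective N.subtype N.subtype_injective
    exact Group.isSolvable_of_isSolvable_injective (f := e.toMonoidHom) e.injective)
  have hLN : L' ≤ N := map_subtype_le _
  have hcop' : (Nat.card L').Coprime (Nat.card P) := by
    have e : Nat.card L' = Nat.card L := Nat.card_congr (L.equivMapOfInjective N.subtype N.subtype_injective).symm.toEquiv
    have e2 : Nat.card P = Nat.card (P.subgroupOf N) := Nat.card_congr (subgroupOfEquivOfLe hPN).symm.toEquiv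
    rw [e, e2]
    have e3 : (P.subgroupOf N).index = Nat.card L := hL.symm.index_eq_card
    rw [← e3]
    exact hcop.symm
  have hPsol' : Group.IsSolvable P := by
    have := hP.isNilpotent
    infer_instance
  have key := Cfsg.Agent.S0026.result L' P hLN hcop' (Or.inr hPsol')
  have hmem : c ∈ (⁅P, L'⁆ ⊔ (P ⊓ centralizer (L' : Set H))).map φ := by
    rw [key]
    exact ⟨x, hx, hxc⟩
  have hbot : (⁅P, L'⁆).map φ = ⊥ := by
    rw [map_commutator, commutator_eq_bot_iff_le_centralizer]
    have : P.map φ ≤ center S := (map_le_iff_le_comap.2 hPH).trans hzc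
    exact this.trans (center_le_centralizer _)
  rw [Subgroup.map_sup, hbot, bot_sup_eq] at hmem
  obtain ⟨y, ⟨hyP, hyC⟩, hyc⟩ := hmem
  refine ⟨y, hyc, hpe y hyP, fun hs => hLns' ?_⟩
  have hle : L' ≤ centralizer ({y} : Set H) := by
    intro l hl
    rw [mem_centralizer_singleton_iff]
    exact (mem_centralizer_iff.1 hyC l hl)
  exact Group.isSolvable_of_isSolvable_injective (f := inclusion hle) (inclusion_injective hle)

section

variable {H S : Type*} [Group H] [Group S] (φ : H →* S) (c : S) (D : Subgroup S)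

/-- the preimage of `⟨c⟩ D` -/
def preJ : Subgroup H := (zpowers c ⊔ D).comap φ

/-- the restriction of `φ` -/
def preφ : preJ φ c D →* (zpowers c ⊔ D : Subgroup S) :=
  (φ.comp (preJ φ c D).subtype).codRestrict _ fun x => x.2

theorem preφ_surjective (hφ : Function.Surjective φ) : Function.Surjective (preφ φ c D) := by
  rintro ⟨s, hs⟩
  obtain ⟨h, rfl⟩ := hφ s
  exact ⟨⟨h, hs⟩, rfl⟩

theorem mem_center_sup (hD : ∀ d ∈ D, d * c = c * d) :
    (⟨c, mem_sup_left (mem_zpowers c)⟩ : (zpowers c ⊔ D : Subgroup S)) ∈ center (zpowers c ⊔ D : Subgroup S) := by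
  rw [mem_center_iff]
  rintro ⟨s, hs⟩
  apply Subtype.ext
  show s * c = c * s
  have : zpowers c ⊔ D ≤ centralizer ({c} : Set S) := by
    rw [sup_le_iff, zpowers_le]
    exact ⟨mem_centralizer_singleton_iff.2 rfl, fun d hd => mem_centralizer_singleton_iff.2 (hD d hd)⟩
  exact mem_centralizer_singleton_iff.1 (this hs)

theorem not_solvable_sup (hDs : ¬ Group.IsSolvable D) : ¬ Group.IsSolvable (zpowers c ⊔ D : Subgroup S) :=
  fun _ => hDs (Group.isSolvable_of_isSolvable_injective (f := inclusion (le_sup_right : D ≤ zpowers c ⊔ D))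
    (inclusion_injective _))

variable {φ c D}

theorem transfer {p : ℕ} (h : ∃ y : preJ φ c D, preφ φ c D y = ⟨c, mem_sup_left (mem_zpowers c)⟩ ∧
      (∃ k, orderOf y = p ^ k) ∧ ¬ Group.IsSolvable (centralizer ({y} : Set (preJ φ c D)))) :
    ∃ y : H, φ y = c ∧ (∃ k, orderOf y = p ^ k) ∧ ¬ Group.IsSolvable (centralizer ({y} : Set H)) := by
  obtain ⟨y, h1, ⟨k, h2⟩, h3⟩ := h
  refine ⟨y, congrArg Subtype.val h1, ⟨k, by rw [← h2, orderOf_coe]⟩, fun hs => h3 ?_⟩
  refine Group.isSolvable_of_isSolvable_injective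
    (f := (((preJ φ c D).subtype.comp (centralizer ({y} : Set (preJ φ c D))).subtype).codRestrict
      (centralizer ({(y : H)} : Set H)) fun z => ?_)) ?_
  · rw [mem_centralizer_singleton_iff]
    exact congrArg Subtype.val (mem_centralizer_singleton_iff.1 z.2)
  · intro a b hab
    have hab' := congrArg Subtype.val hab
    exact Subtype.ext (Subtype.ext hab')

/-- **Lifting, central case.** -/
theorem lift_central [Finite H] {p : ℕ} [Fact p.Prime] (hφ : Function.Surjective φ)
    (hker : ∀ x ∈ φ.ker, (∃ k, orderOf x = p ^ k) → x ∈ center H) (hcp : ∃ k, orderOf c = p ^ k)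
    (hD : ∀ d ∈ D, d * c = c * d) (hDs : ¬ Group.IsSolvable D) :
    ∃ y : H, φ y = c ∧ (∃ k, orderOf y = p ^ k) ∧ ¬ Group.IsSolvable (centralizer ({y} : Set H)) := by
  refine transfer (D := D) (lift_central_aux (preφ φ c D) (preφ_surjective φ c D hφ) ?_ _ ?_
    (mem_center_sup c D hD) (not_solvable_sup c D hDs))
  · rintro x hx ⟨k, hk⟩
    have h1 : (x : H) ∈ center H := hker x (by
      rw [MonoidHom.mem_ker] at hx ⊢
      exact congrArg Subtype.val hx) ⟨k, by rw [← hk, orderOf_coe]⟩
    rw [mem_center_iff] at h1 ⊢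
    exact fun g => Subtype.ext (h1 g)
  · obtain ⟨k, hk⟩ := hcp
    exact ⟨k, by rw [← hk, orderOf_mk]⟩

/-- **Lifting, coprime case.** -/
theorem lift_coprime [Finite H] {p : ℕ} [hp : Fact p.Prime] (hφ : Function.Surjective φ) (hcp : ∃ k, orderOf c = p ^ k)
    (hD : ∀ d ∈ D, d * c = c * d) (hDs : ¬ Group.IsSolvable D) (hDp : ¬ p ∣ Nat.card D) :
    ∃ y : H, φ y = c ∧ (∃ k, orderOf y = p ^ k) ∧ ¬ Group.IsSolvable (centralizer ({y} : Set H)) := by
  refine transfer (D := D) (lift_coprime_aux (preφ φ c D) (preφ_surjective φ c D hφ) _ ?_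
    (mem_center_sup c D hD) (not_solvable_sup c D hDs) ?_)
  · obtain ⟨k, hk⟩ := hcp
    exact ⟨k, by rw [← hk, orderOf_mk]⟩
  · intro h
    apply hDp
    -- `zpowers c` is normal in `⟨c⟩ D`; the map `D → (⟨c⟩ D) / ⟨c⟩` is surjective
    have hz : (zpowers (⟨c, mem_sup_left (mem_zpowers c)⟩ : (zpowers c ⊔ D : Subgroup S))).Normal := by
      refine ⟨fun n hn g => ?_⟩
      have h1 : n ∈ center (zpowers c ⊔ D : Subgroup S) := (zpowers_le.2 (mem_center_sup c D hD)) hn
      rw [mem_center_iff.1 h1 g, mul_inv_cancel_right]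
      exact hn
    have htop : zpowers (⟨c, mem_sup_left (mem_zpowers c)⟩ : (zpowers c ⊔ D : Subgroup S)) ⊔
        D.subgroupOf (zpowers c ⊔ D) = ⊤ := by
      apply map_injective (zpowers c ⊔ D : Subgroup S).subtype_injective
      rw [Subgroup.map_sup, MonoidHom.map_zpowers, subgroupOf_map_subtype, inf_of_le_left le_sup_right,
        ← MonoidHom.range_eq_map, range_subtype]
      rfl
    have h1 := relIndex_sup_left (D.subgroupOf (zpowers c ⊔ D))
      (zpowers (⟨c, mem_sup_left (mem_zpowers c)⟩ : (zpowers c ⊔ D : Subgroup S)))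
    rw [htop, relIndex_top_right] at h1
    rw [h1] at h
    have h2 := h.trans (relIndex_dvd_card _ _)
    rwa [Nat.card_congr (subgroupOfEquivOfLe (le_sup_right : D ≤ zpowers c ⊔ D)).toEquiv] at h2

end

end Cfsg.Agent.H196.AltLift
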