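import Cfsg.Agent.H196.NF

/-!
# More tools for the certificates: products of formal sums, commuting generators, the prime 5
-/

set_option autoImplicit false

namespace Cfsg.Agent.H196.GA

attribute [local irreducible] comp toPerm dig okc idc

section

variable {n p : ℕ} {V : Type*} [AddCommGroup V] [DistribMulAction (Equiv.Perm (Fin n)) V]

/-- product of formal sums -/
def fmul (l m : FS) : FS := l.flatMap fun x => sc x.1 (lm x.2 m)

theorem ev_fmul (hn : n ≤ 10) (v : V) {m : FS} (hm : okFS n m = true) : ∀ (l : FS) (_ : okFS n l = true),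
    ev n v (fmul l m) = ev n (ev n v m) l
  | [], _ => by simp [fmul]
  | x :: l, hl => by
    rw [okFS, List.all_cons, Bool.and_eq_true] at hl
    have := ev_fmul hn v hm l hl.2
    simp only [fmul] at this
    simp only [fmul, List.flatMap_cons, ev_append, ev_cons, this, ev_sc, ev_lm hn v hl.1 m hm]

theorem ev_one (hn : n ≤ 10) (v : V) : ev n v [(1, idc)] = v := by
  simp [toPerm_idc hn]

/-- `a` commutes with all codes of `l` -/
def commB (a : ℕ) (l : FS) : Bool := l.all fun x => Nat.beq (comp a x.2) (comp x.2 a)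

theorem smul_ev_comm (hn : n ≤ 10) {a : ℕ} (ha : okc n a = true) (v : V) : ∀ (l : FS) (_ : okFS n l = true)
    (_ : commB a l = true), toPerm n a • ev n v l = ev n (toPerm n a • v) l
  | [], _, _ => by simp
  | x :: l, hl, hc => by
    rw [okFS, List.all_cons, Bool.and_eq_true] at hl
    rw [commB, List.all_cons, Bool.and_eq_true] at hc
    have h1 := smul_ev_comm hn ha v l hl.2 hc.2
    have h2 := (comp_ok hn ha hl.1).2
    rw [Nat.eq_of_beq_eq_true hc.1, (comp_ok hn hl.1 ha).2] at h2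
    rw [ev_cons, ev_cons, smul_add, h1, smul_comm (toPerm n a) x.1, ← mul_smul, ← h2, mul_smul]

theorem ev_neg (v : V) : ∀ l : FS, ev n (-v) l = -ev n v l
  | [] => by simp
  | x :: l => by rw [ev_cons, ev_cons, ev_neg v l, smul_neg, smul_neg]; abel

theorem fx_comm (hn : n ≤ 10) {a : ℕ} (ha : okc n a = true) {v : V} {l : FS} (hl : okFS n l = true)
    (hc : commB a l = true) (h : Fx n a v) : Fx n a (ev n v l) := by
  unfold Fx at *
  rw [smul_ev_comm hn ha v l hl hc, h]

theorem an_comm (hn : n ≤ 10) {a : ℕ} (ha : okc n a = true) {v : V} {l : FS} (hl : okFS n l = true)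
    (hc : commB a l = true) (h : An n a v) : An n a (ev n v l) := by
  unfold An at *
  rw [smul_ev_comm hn ha v l hl hc, h, ev_neg]

theorem ev_zero : ∀ l : FS, ev n (0 : V) l = 0
  | [] => rfl
  | x :: l => by rw [ev_cons, ev_zero l, smul_zero, smul_zero, add_zero]

end

section five

variable {V : Type*} [AddCommGroup V] [DistribMulAction (Equiv.Perm (Fin 10)) V]

theorem ckZ (hp : ∀ v : V, 5 • v = 0) {v : V} (rels : List FS) (hz : ∀ r ∈ rels, ev 10 v r = 0)
    (target : FS) (terms : List (ℕ × ℕ × ℕ)) (h : check 10 5 comp rels terms target = true) :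
    ev 10 v target = 0 :=
  sound (by norm_num) hp (keyOK_comp (by norm_num) v) hz h

theorem ckFx (hp : ∀ v : V, 5 • v = 0) {v : V} (rels : List FS) (hz : ∀ r ∈ rels, ev 10 v r = 0) (a : ℕ) (l : FS)
    (ta : List (ℕ × ℕ × ℕ)) (ha : okc 10 a = true) (hl : okFS 10 l = true)
    (ca : check 10 5 comp rels ta (lm a l ++ sc 4 l) = true) : Fx 10 a (ev 10 v l) :=
  fx_of_check (by norm_num) hp (by norm_num) (keyOK_comp (by norm_num) v) hz ha hl ca

theorem ckAn (hp : ∀ v : V, 5 • v = 0) {v : V} (rels : List FS) (hz : ∀ r ∈ rels, ev 10 v r = 0) (a : ℕ) (l : FS)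
    (ta : List (ℕ × ℕ × ℕ)) (ha : okc 10 a = true) (hl : okFS 10 l = true)
    (ca : check 10 5 comp rels ta (lm a l ++ l) = true) : An 10 a (ev 10 v l) :=
  an_of_check (by norm_num) hp (keyOK_comp (by norm_num) v) hz ha hl ca

theorem ckKill (hp : ∀ v : V, 5 • v = 0) (hNF : NF 10 V) {v : V} (rels : List FS)
    (hz : ∀ r ∈ rels, ev 10 v r = 0) (a b i : ℕ) (w₁ w₂ w₃ w₄ : List Bool) (l : FS) (ta tb : List (ℕ × ℕ × ℕ))
    (h : nsB 10 a b i w₁ w₂ w₃ w₄ = true) (hl : okFS 10 l = true)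
    (ca : check 10 5 comp rels ta (lm a l ++ sc 4 l) = true)
    (cb : check 10 5 comp rels tb (lm b l ++ sc 4 l) = true) : ev 10 v l = 0 :=
  hNF.kill (by norm_num) hp (by norm_num) (keyOK_comp (by norm_num) v) hz h hl ca cb

theorem rfz (hp : ∀ v : V, 5 • v = 0) {a : ℕ} {v : V} (h : Fx 10 a v) : ev 10 v (rf 5 a) = 0 :=
  (ev_rf (by norm_num) hp (by norm_num)).2 h

theorem fxz (hp : ∀ v : V, 5 • v = 0) {a : ℕ} {v : V} (h : ev 10 v (rf 5 a) = 0) : Fx 10 a v :=
  (ev_rf (by norm_num) hp (by norm_num)).1 h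

theorem raz {a : ℕ} {v : V} (h : An 10 a v) : ev 10 v (ra a) = 0 :=
  (ev_ra (by norm_num)).2 h

/-- The fifth power of `y - 1` kills everything if `y ^ 5 = 1`; so there are nonzero fixed vectors. -/
theorem exists_fx_five (hp : ∀ v : V, 5 • v = 0) (L : List ℕ) (y : ℕ) (hy : okc 10 y = true)
    (hy5 : check 10 5 comp [] [] (fmul (rf 5 y) (fmul (rf 5 y) (fmul (rf 5 y) (fmul (rf 5 y) (rf 5 y))))) = true)
    (hL : (L.all fun x => and (okc 10 x) (commB x (rf 5 y))) = true) {v : V} (hv : v ≠ 0)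
    (hfix : ∀ x ∈ L, Fx 10 x v) : ∃ w : V, w ≠ 0 ∧ Fx 10 y w ∧ ∀ x ∈ L, Fx 10 x w := by
  have hr : okFS 10 (rf 5 y) = true := by
    simp only [okFS, rf, List.all_cons, List.all_nil, Bool.and_true, Bool.and_eq_true]
    exact ⟨hy, okc_idc (by norm_num)⟩
  have hr' : ∀ l : FS, okFS 10 l = true → okFS 10 (fmul (rf 5 y) l) = true := by
    intro l hl
    simp only [okFS, List.all_eq_true] at hl ⊢
    intro x hx
    simp only [fmul, List.mem_flatMap, sc, lm, List.map_map, List.mem_map] at hx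
    obtain ⟨z, hz, u, hu, rfl⟩ := hx
    refine (comp_ok (by norm_num) ?_ (hl u hu)).1
    simp only [rf, List.mem_cons, List.not_mem_nil, or_false] at hz
    rcases hz with rfl | rfl
    · exact hy
    · exact okc_idc (by norm_num)
  have h5 : ∀ u : V, ev 10 (ev 10 (ev 10 (ev 10 (ev 10 u (rf 5 y)) (rf 5 y)) (rf 5 y)) (rf 5 y)) (rf 5 y) = 0 := by
    intro u
    have := ckZ hp (v := u) [] (by simp) _ [] hy5
    rwa [ev_fmul (by norm_num) _ (hr' _ (hr' _ (hr' _ hr))) _ hr, ev_fmul (by norm_num) _ (hr' _ (hr' _ hr)) _ hr,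
      ev_fmul (by norm_num) _ (hr' _ hr) _ hr, ev_fmul (by norm_num) _ hr _ hr] at this
  have step : ∀ u : V, (∀ x ∈ L, Fx 10 x u) → ∀ x ∈ L, Fx 10 x (ev 10 u (rf 5 y)) := by
    intro u hu x hx
    rw [List.all_eq_true] at hL
    have := hL x hx
    rw [Bool.and_eq_true] at this
    exact fx_comm (by norm_num) this.1 hr this.2 (hu x hx)
  have fin : ∀ u : V, ev 10 u (rf 5 y) = 0 → Fx 10 y u := fun u hu => fxz hp hu
  by_cases h0 : ev 10 v (rf 5 y) = 0
  · exact ⟨v, hv, fin _ h0, hfix⟩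
  by_cases h1 : ev 10 (ev 10 v (rf 5 y)) (rf 5 y) = 0
  · exact ⟨_, h0, fin _ h1, step _ hfix⟩
  by_cases h2 : ev 10 (ev 10 (ev 10 v (rf 5 y)) (rf 5 y)) (rf 5 y) = 0
  · exact ⟨_, h1, fin _ h2, step _ (step _ hfix)⟩
  by_cases h3 : ev 10 (ev 10 (ev 10 (ev 10 v (rf 5 y)) (rf 5 y)) (rf 5 y)) (rf 5 y) = 0
  · exact ⟨_, h2, fin _ h3, step _ (step _ (step _ hfix))⟩
  · exact ⟨_, h3, fin _ (h5 v), step _ (step _ (step _ (step _ hfix)))⟩

end five

end Cfsg.Agent.H196.GA
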