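import Cfsg.Agent.H196.NF

/-!
# A complete invariant for the cosets of a Sylow 2-subgroup of the symmetric group of degree 9
-/

set_option autoImplicit false

namespace Cfsg.Agent.H196.Two

open Cfsg.Agent.H196.GA

/-- an injective code of unordered pairs -/
def sp (m a b : ℕ) : ℕ := Nat.add (Nat.mul m (Nat.add a b)) (Nat.mul a b)

theorem sp_inj {m a b a' b' : ℕ} (h1 : a * b < m) (h2 : a' * b' < m) (h : sp m a b = sp m a' b') :
    (a = a' ∧ b = b') ∨ (a = b' ∧ b = a') := by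
  have h : m * (a + b) + a * b = m * (a' + b') + a' * b' := h
  have hm : 0 < m := by omega
  have h3 : a * b = a' * b' := by
    have := congrArg (· % m) h
    simpa [Nat.mul_add_mod, Nat.mod_eq_of_lt h1, Nat.mod_eq_of_lt h2] using this
  have h4 : a + b = a' + b' := by
    rw [h3] at h
    exact Nat.eq_of_mul_eq_mul_left hm (Nat.add_right_cancel h)
  have h5 : ((a : ℤ) - a') * ((a : ℤ) - b') = 0 := by
    have h3' : (a : ℤ) * b = a' * b' := by exact_mod_cast h3
    have h4' : (a : ℤ) + b = a' + b' := by exact_mod_cast h4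
    linear_combination (a : ℤ) * h4' - h3'
  rcases mul_eq_zero.1 h5 with h6 | h6
  · left
    omega
  · right
    omega

theorem sp_lt {m a b k : ℕ} (hk : a < k) (hk' : b < k) (h : k * k ≤ m) : sp m a b < m * (2 * k) := by
  have h0 : sp m a b = m * (a + b) + a * b := rfl
  have h1 : a * b < k * k := Nat.mul_lt_mul'' hk hk'
  have h2 : m * (a + b) + m ≤ m * (2 * k) := by
    rw [← Nat.mul_succ]
    exact Nat.mul_le_mul_left _ (by omega)
  omega

/-- the digit of the product of `h` and `x` (`p = 16 ^ i`) -/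
def D (h x p : ℕ) : ℕ := Nat.mod (Nat.div h (Nat.pow 16 (Nat.mod (Nat.div x p) 16))) 16

/-- the key of the product of `h` and `x` -/
def key (h x : ℕ) : ℕ :=
  sp 0x1000000000000000000000
    (sp 0x4000000 (sp 256 (D h x 1) (D h x 16)) (sp 256 (D h x 256) (D h x 4096)))
    (sp 0x4000000 (sp 256 (D h x 65536) (D h x 0x100000)) (sp 256 (D h x 0x1000000) (D h x 0x10000000)))

/-- pairs -/
def kA (c i : ℕ) : ℕ := sp 256 (dig c i) (dig c (i + 1))

/-- pairs of pairs -/
def kB (c i : ℕ) : ℕ := sp 0x4000000 (kA c i) (kA c (i + 2))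

/-- the key of a code -/
def kC (c : ℕ) : ℕ := sp 0x1000000000000000000000 (kB c 0) (kB c 4)

theorem key_eq (h x : ℕ) : key h x = kC (comp h x) := by
  have h0 : ∀ i < 10, ∀ p, p = 16 ^ i → D h x p = dig (comp h x) i := by
    rintro i hi p rfl
    rw [dig_comp h x hi]
    rfl
  simp only [key, kC, kB, kA]
  rw [h0 0 (by norm_num) _ (by norm_num), h0 1 (by norm_num) _ (by norm_num), h0 2 (by norm_num) _ (by norm_num),
    h0 3 (by norm_num) _ (by norm_num), h0 4 (by norm_num) _ (by norm_num), h0 5 (by norm_num) _ (by norm_num),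
    h0 6 (by norm_num) _ (by norm_num), h0 7 (by norm_num) _ (by norm_num)]

theorem kA_lt (c i : ℕ) : kA c i < 8192 := by
  have h := sp_lt (m := 256) (dig_lt c i) (dig_lt c (i + 1)) (by norm_num)
  unfold kA
  omega

theorem kB_lt (c i : ℕ) : kB c i < 0x4000000 * 16384 := by
  have h := sp_lt (m := 0x4000000) (kA_lt c i) (kA_lt c (i + 2)) (by norm_num)
  unfold kB
  omega

/-- generators of the 2-group of order 128 -/
def T : List ℕ := [0x9876543201, 0x9876542310, 0x9876453210, 0x9867543210, 0x9876541032, 0x9854763210, 0x9832107654]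

variable {V : Type*} [AddCommGroup V] [DistribMulAction (Equiv.Perm (Fin 9)) V]

/-- modify a code by a generator -/
theorem exists_comp {v : V} (h : ∀ x ∈ T, Fx 9 x v) {c : ℕ} (t : ℕ) (hc : okc 9 c = true) (ht : t ∈ T) :
    ∃ c₁, okc 9 c₁ = true ∧ toPerm 9 c₁ • v = toPerm 9 c • v ∧ ∀ i < 9, dig c₁ i = dig c (dig t i) := by
  have ht' : okc 9 t = true := by
    revert t
    decide
  obtain ⟨h1, h2⟩ := comp_ok (by norm_num) hc ht'
  refine ⟨comp c t, h1, ?_, fun i hi => dig_comp c t (by omega)⟩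
  rw [h2, mul_smul]
  exact congrArg _ (h t ht)

theorem swapC {v : V} (h : ∀ x ∈ T, Fx 9 x v) {c c' : ℕ} (hc' : okc 9 c' = true) (hk : kC c = kC c') :
    ∃ c₁, okc 9 c₁ = true ∧ toPerm 9 c₁ • v = toPerm 9 c' • v ∧ kB c 0 = kB c₁ 0 ∧ kB c 4 = kB c₁ 4 := by
  have hb : ∀ c, kB c 0 * kB c 4 < 0x1000000000000000000000 := fun c =>
    (Nat.mul_lt_mul'' (kB_lt c 0) (kB_lt c 4)).trans_le (by norm_num)
  rcases sp_inj (hb c) (hb c') hk with ⟨h1, h2⟩ | ⟨h1, h2⟩
  · exact ⟨c', hc', rfl, h1, h2⟩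
  · obtain ⟨c₁, h3, h4, h5⟩ := exists_comp h 0x9832107654 hc' (by decide)
    have e0 : dig c₁ 0 = dig c' 4 := h5 0 (by norm_num)
    have e1 : dig c₁ 1 = dig c' 5 := h5 1 (by norm_num)
    have e2 : dig c₁ 2 = dig c' 6 := h5 2 (by norm_num)
    have e3 : dig c₁ 3 = dig c' 7 := h5 3 (by norm_num)
    have e4 : dig c₁ 4 = dig c' 0 := h5 4 (by norm_num)
    have e5 : dig c₁ 5 = dig c' 1 := h5 5 (by norm_num)
    have e6 : dig c₁ 6 = dig c' 2 := h5 6 (by norm_num)
    have e7 : dig c₁ 7 = dig c' 3 := h5 7 (by norm_num)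
    refine ⟨c₁, h3, h4, ?_, ?_⟩
    · rw [h1]
      simp only [kB, kA, Nat.reduceAdd, e0, e1, e2, e3]
    · rw [h2]
      simp only [kB, kA, Nat.reduceAdd, e4, e5, e6, e7]

theorem swapB {v : V} (h : ∀ x ∈ T, Fx 9 x v) (i t : ℕ) (ht : t ∈ T) (hi : i + 3 < 9) (t0 : dig t i = i + 2)
    (t1 : dig t (i + 1) = i + 3) (t2 : dig t (i + 2) = i) (t3 : dig t (i + 3) = i + 1)
    (tj : ∀ j < 9, (j < i ∨ i + 4 ≤ j) → dig t j = j) {c c' : ℕ} (hc' : okc 9 c' = true)
    (hk : kB c i = kB c' i) :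
    ∃ c₁, okc 9 c₁ = true ∧ toPerm 9 c₁ • v = toPerm 9 c' • v ∧ kA c i = kA c₁ i ∧ kA c (i + 2) = kA c₁ (i + 2) ∧
      ∀ j < 9, (j < i ∨ i + 4 ≤ j) → dig c₁ j = dig c' j := by
  have hb : ∀ c, kA c i * kA c (i + 2) < 0x4000000 := fun c =>
    (Nat.mul_lt_mul'' (kA_lt c i) (kA_lt c (i + 2))).trans_le (by norm_num)
  rcases sp_inj (hb c) (hb c') hk with ⟨h1, h2⟩ | ⟨h1, h2⟩
  · exact ⟨c', hc', rfl, h1, h2, fun _ _ _ => rfl⟩
  · obtain ⟨c₁, h3, h4, h5⟩ := exists_comp h t hc' ht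
    have e0 := h5 i (by omega)
    have e1 := h5 (i + 1) (by omega)
    have e2 := h5 (i + 2) (by omega)
    have e3 := h5 (i + 3) (by omega)
    rw [t0] at e0
    rw [t1] at e1
    rw [t2] at e2
    rw [t3] at e3
    refine ⟨c₁, h3, h4, ?_, ?_, fun j hj hj' => by rw [h5 j hj, tj j hj hj']⟩
    · rw [h1]
      simp only [kA, e0, e1, add_assoc, Nat.reduceAdd]
    · rw [h2]
      simp only [kA, e2, e3, add_assoc, Nat.reduceAdd]

theorem swapA {v : V} (h : ∀ x ∈ T, Fx 9 x v) (i t : ℕ) (ht : t ∈ T) (hi : i + 1 < 9) (t0 : dig t i = i + 1)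
    (t1 : dig t (i + 1) = i) (tj : ∀ j < 9, (j < i ∨ i + 2 ≤ j) → dig t j = j) {c c' : ℕ}
    (hc' : okc 9 c' = true) (hk : kA c i = kA c' i) :
    ∃ c₁, okc 9 c₁ = true ∧ toPerm 9 c₁ • v = toPerm 9 c' • v ∧ dig c i = dig c₁ i ∧
      dig c (i + 1) = dig c₁ (i + 1) ∧ ∀ j < 9, (j < i ∨ i + 2 ≤ j) → dig c₁ j = dig c' j := by
  have hb : ∀ c, dig c i * dig c (i + 1) < 256 := fun c =>
    (Nat.mul_lt_mul'' (dig_lt c i) (dig_lt c (i + 1))).trans_le (by norm_num)
  rcases sp_inj (hb c) (hb c') hk with ⟨h1, h2⟩ | ⟨h1, h2⟩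
  · exact ⟨c', hc', rfl, h1, h2, fun _ _ _ => rfl⟩
  · obtain ⟨c₁, h3, h4, h5⟩ := exists_comp h t hc' ht
    have e0 := h5 i (by omega)
    have e1 := h5 (i + 1) (by omega)
    rw [t0] at e0
    rw [t1] at e1
    exact ⟨c₁, h3, h4, by rw [h1, e0], by rw [h2, e1], fun j hj hj' => by rw [h5 j hj, tj j hj hj']⟩

theorem smul_eq_of_kC {v : V} (h : ∀ x ∈ T, Fx 9 x v) {c c' : ℕ} (hc : okc 9 c = true) (hc' : okc 9 c' = true)
    (hk : kC c = kC c') : toPerm 9 c • v = toPerm 9 c' • v := by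
  obtain ⟨c1, o1, s1, b0, b4⟩ := swapC h hc' hk
  obtain ⟨c2, o2, s2, a0, a2, r2⟩ := swapB h 0 0x9876541032 (by decide) (by norm_num) (by decide) (by decide)
    (by decide) (by decide) (by decide) o1 b0
  have b4' : kB c 4 = kB c2 4 := by
    rw [b4]
    simp only [kB, kA, Nat.reduceAdd]
    rw [r2 4 (by norm_num) (by norm_num), r2 5 (by norm_num) (by norm_num), r2 6 (by norm_num) (by norm_num),
      r2 7 (by norm_num) (by norm_num)]
  obtain ⟨c3, o3, s3, a4, a6, r3⟩ := swapB h 4 0x9854763210 (by decide) (by norm_num) (by decide) (by decide)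
    (by decide) (by decide) (by decide) o2 b4'
  have a0' : kA c 0 = kA c3 0 := by
    rw [a0]
    simp only [kA, Nat.reduceAdd]
    rw [r3 0 (by norm_num) (by norm_num), r3 1 (by norm_num) (by norm_num)]
  have a2' : kA c 2 = kA c3 2 := by
    have := a2
    simp only [Nat.reduceAdd] at this
    rw [this]
    simp only [kA, Nat.reduceAdd]
    rw [r3 2 (by norm_num) (by norm_num), r3 3 (by norm_num) (by norm_num)]
  have a6' : kA c 6 = kA c3 6 := a6
  obtain ⟨c4, o4, s4, d0, d1, r4⟩ := swapA h 0 0x9876543201 (by decide) (by norm_num) (by decide) (by decide)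
    (by decide) o3 a0'
  have a2'' : kA c 2 = kA c4 2 := by
    rw [a2']
    simp only [kA, Nat.reduceAdd]
    rw [r4 2 (by norm_num) (by norm_num), r4 3 (by norm_num) (by norm_num)]
  obtain ⟨c5, o5, s5, d2, d3, r5⟩ := swapA h 2 0x9876542310 (by decide) (by norm_num) (by decide) (by decide)
    (by decide) o4 a2''
  have a4'' : kA c 4 = kA c5 4 := by
    rw [a4]
    simp only [kA, Nat.reduceAdd]
    rw [r5 4 (by norm_num) (by norm_num), r5 5 (by norm_num) (by norm_num), r4 4 (by norm_num) (by norm_num),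
      r4 5 (by norm_num) (by norm_num)]
  obtain ⟨c6, o6, s6, d4, d5, r6⟩ := swapA h 4 0x9876453210 (by decide) (by norm_num) (by decide) (by decide)
    (by decide) o5 a4''
  have a6'' : kA c 6 = kA c6 6 := by
    rw [a6']
    simp only [kA, Nat.reduceAdd]
    rw [r6 6 (by norm_num) (by norm_num), r6 7 (by norm_num) (by norm_num), r5 6 (by norm_num) (by norm_num),
      r5 7 (by norm_num) (by norm_num), r4 6 (by norm_num) (by norm_num), r4 7 (by norm_num) (by norm_num)]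
  obtain ⟨c7, o7, s7, d6, d7, r7⟩ := swapA h 6 0x9867543210 (by decide) (by norm_num) (by decide) (by decide)
    (by decide) o6 a6''
  have hd : ∀ i < 8, dig c i = dig c7 i := by
    intro i hi
    interval_cases i
    · rw [d0, r7 0 (by norm_num) (by norm_num), r6 0 (by norm_num) (by norm_num), r5 0 (by norm_num) (by norm_num)]
    · rw [show dig c 1 = dig c4 1 from d1, r7 1 (by norm_num) (by norm_num), r6 1 (by norm_num) (by norm_num),
        r5 1 (by norm_num) (by norm_num)]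
    · rw [d2, r7 2 (by norm_num) (by norm_num), r6 2 (by norm_num) (by norm_num)]
    · rw [show dig c 3 = dig c5 3 from d3, r7 3 (by norm_num) (by norm_num), r6 3 (by norm_num) (by norm_num)]
    · rw [d4, r7 4 (by norm_num) (by norm_num)]
    · rw [show dig c 5 = dig c6 5 from d5, r7 5 (by norm_num) (by norm_num)]
    · exact d6
    · exact d7
  have h8 : dig c 8 = dig c7 8 := by
    obtain ⟨i, hi, hi'⟩ := ((okc_iff 9 c7).1 o7).2 (dig c 8) (((okc_iff 9 c).1 hc).1 8 (by norm_num))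
    rcases Nat.lt_succ_iff_lt_or_eq.1 hi with h1 | h1
    · rw [← hd i h1] at hi'
      have := (bij_of_ok hc).1 (a₁ := ⟨i, by omega⟩) (a₂ := ⟨8, by omega⟩) (Fin.ext hi')
      rw [Fin.mk.injEq] at this
      omega
    · rw [← hi', h1]
  have hperm : toPerm 9 c = toPerm 9 c7 := by
    ext i
    rw [toPerm_apply hc, toPerm_apply o7]
    rcases Nat.lt_succ_iff_lt_or_eq.1 i.2 with h1 | h1
    · exact hd i h1
    · rw [h1]
      exact h8
  rw [hperm, s7, s6, s5, s4, s3, s2, s1]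

/-- **The key is a complete invariant of the translates of a vector fixed by `T`.** -/
theorem keyOK {v : V} (h : ∀ x ∈ T, Fx 9 x v) : KeyOK 9 v key := by
  classical
  refine ⟨fun k => if hk : ∃ c, okc 9 c = true ∧ kC c = k then toPerm 9 (Classical.choose hk) • v else 0,
    fun c x hc hx => ?_⟩
  obtain ⟨h1, h2⟩ := comp_ok (by norm_num) hc hx
  have h3 : ∃ c', okc 9 c' = true ∧ kC c' = key c x := ⟨_, h1, (key_eq c x).symm⟩
  simp only
  rw [dif_pos h3, ← mul_smul, ← h2]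
  obtain ⟨h4, h5⟩ := Classical.choose_spec h3
  exact smul_eq_of_kC h h4 h1 (h5.trans (key_eq c x))

end Cfsg.Agent.H196.Two
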