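import Cfsg.Agent.H196.GA

/-!
# Modules without vectors fixed by a nonsolvable subgroup

`Cfsg.Agent.H196.GA.NF n V`: no nonzero vector of the `Equiv.Perm (Fin n)`-module `V` is fixed by a nonsolvable
two-generated subgroup.  `NF.kill` is the way to use this property together with certificates.
-/

set_option autoImplicit false

open scoped commutatorElement

namespace Cfsg.Agent.H196.GA

/-- A finite computation with words: `w = [r₁, …]` is the product of `a`'s and `b`'s. -/
def wd (a b : ℕ) : List Bool → ℕ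
  | [] => idc
  | x :: w => comp (bif x then a else b) (wd a b w)

theorem wd_ok {n a b : ℕ} (hn : n ≤ 10) (ha : okc n a = true) (hb : okc n b = true) : ∀ w : List Bool,
    okc n (wd a b w) = true ∧ toPerm n (wd a b w) ∈ Subgroup.closure {toPerm n a, toPerm n b}
  | [] => by
    simp only [wd]
    exact ⟨okc_idc hn, by rw [toPerm_idc hn]; exact one_mem _⟩
  | x :: w => by
    obtain ⟨h1, h2⟩ := wd_ok hn ha hb w
    cases x
    · simp only [wd, cond_false]
      obtain ⟨h3, h4⟩ := comp_ok hn hb h1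
      exact ⟨h3, by rw [h4]; exact mul_mem (Subgroup.subset_closure (by simp)) h2⟩
    · simp only [wd, cond_true]
      obtain ⟨h3, h4⟩ := comp_ok hn ha h1
      exact ⟨h3, by rw [h4]; exact mul_mem (Subgroup.subset_closure (by simp)) h2⟩

/-- `a = [w₁, w₂]` and `b = [w₃, w₄]` for words `w₁, …, w₄` in `a` and `b` (and `a` moves `i`) -/
def nsB (n a b i : ℕ) (w₁ w₂ w₃ w₄ : List Bool) : Bool :=
  and (and (okc n a) (okc n b)) (and (and (Nat.ble (Nat.succ i) n) (not (Nat.beq (dig a i) i)))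
    (and (Nat.beq (comp (wd a b w₁) (wd a b w₂)) (comp a (comp (wd a b w₂) (wd a b w₁))))
      (Nat.beq (comp (wd a b w₃) (wd a b w₄)) (comp b (comp (wd a b w₄) (wd a b w₃))))))

theorem not_solvable {n a b i : ℕ} {w₁ w₂ w₃ w₄ : List Bool} (hn : n ≤ 10)
    (h : nsB n a b i w₁ w₂ w₃ w₄ = true) : ¬ Group.IsSolvable (Subgroup.closure {toPerm n a, toPerm n b}) := by
  simp only [nsB, Bool.and_eq_true, Bool.not_eq_true'] at h
  obtain ⟨⟨ha, hb⟩, ⟨hi, hai⟩, h1, h2⟩ := h
  have hi' : i < n := Nat.le_of_ble_eq_true hi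
  have h1' := Nat.eq_of_beq_eq_true h1
  have h2' := Nat.eq_of_beq_eq_true h2
  have key : ∀ (c : ℕ) (u v : List Bool), okc n c = true →
      comp (wd a b u) (wd a b v) = comp c (comp (wd a b v) (wd a b u)) →
      toPerm n c = ⁅toPerm n (wd a b u), toPerm n (wd a b v)⁆ := by
    intro c u v hc huv
    obtain ⟨hu, -⟩ := wd_ok hn ha hb u
    obtain ⟨hv, -⟩ := wd_ok hn ha hb v
    have h3 := (comp_ok hn hu hv).2
    have h4 := (comp_ok hn hc (comp_ok hn hv hu).1).2
    rw [huv, h4, (comp_ok hn hv hu).2] at h3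
    rw [commutatorElement_def, ← h3]
    group
  set H := Subgroup.closure {toPerm n a, toPerm n b} with hH
  intro hs
  have hne : Nontrivial H := by
    refine ⟨⟨⟨toPerm n a, Subgroup.subset_closure (by simp)⟩, 1, fun h => ?_⟩⟩
    have h5 : toPerm n a = 1 := congrArg Subtype.val h
    have h6 := toPerm_apply ha ⟨i, hi'⟩
    rw [h5, Equiv.Perm.one_apply] at h6
    simp only at h6
    rw [← h6] at hai
    simp at hai
  have hlt := Group.IsSolvable.commutator_lt_top_of_nontrivial H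
  apply hlt.ne
  rw [commutator_eq_closure, eq_top_iff]
  have hgen : ∀ (c : ℕ) (u v : List Bool), toPerm n c = ⁅toPerm n (wd a b u), toPerm n (wd a b v)⁆ →
      ∃ g : H, g ∈ commutator H ∧ (g : Equiv.Perm (Fin n)) = toPerm n c := by
    intro c u v huv
    refine ⟨⁅(⟨_, (wd_ok hn ha hb u).2⟩ : H), (⟨_, (wd_ok hn ha hb v).2⟩ : H)⁆, ?_, ?_⟩
    · exact Subgroup.commutator_mem_commutator (Subgroup.mem_top _) (Subgroup.mem_top _)
    · rw [huv]
      simp [commutatorElement_def]
  rintro ⟨x, hx⟩ -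
  rw [← commutator_eq_closure]
  have hx' := hx
  rw [hH] at hx'
  have : ∀ y (hy : y ∈ H), (⟨y, hy⟩ : H) ∈ commutator H := by
    intro y hy
    have hy' := hy
    rw [hH] at hy'
    induction hy' using Subgroup.closure_induction with
    | mem z hz =>
      rcases hz with rfl | rfl
      · obtain ⟨g, hg, hg'⟩ := hgen a w₁ w₂ (key a w₁ w₂ ha h1')
        exact (show g = ⟨_, hy⟩ from Subtype.ext hg') ▸ hg
      · obtain ⟨g, hg, hg'⟩ := hgen b w₃ w₄ (key b w₃ w₄ hb h2')
        exact (show g = ⟨_, hy⟩ from Subtype.ext hg') ▸ hg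
    | one => exact one_mem _
    | mul z z' hz hz' ih ih' =>
      exact mul_mem (ih (hH ▸ hz)) (ih' (hH ▸ hz'))
    | inv z hz ih => exact inv_mem (ih (hH ▸ hz))
  exact this x hx

section

variable {n p : ℕ} {V : Type*} [AddCommGroup V] [DistribMulAction (Equiv.Perm (Fin n)) V]

/-- no nonzero vector is fixed by a nonsolvable (two-generated) subgroup -/
def NF (n : ℕ) (V : Type*) [AddCommGroup V] [DistribMulAction (Equiv.Perm (Fin n)) V] : Prop :=
  ∀ (a b : Equiv.Perm (Fin n)), ¬ Group.IsSolvable (Subgroup.closure {a, b}) → ∀ v : V, a • v = v → b • v = v → v = 0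

/-- fixed by the permutation with code `a` -/
def Fx (n : ℕ) {V : Type*} [AddCommGroup V] [DistribMulAction (Equiv.Perm (Fin n)) V] (a : ℕ) (v : V) : Prop :=
  toPerm n a • v = v

/-- negated by the permutation with code `a` -/
def An (n : ℕ) {V : Type*} [AddCommGroup V] [DistribMulAction (Equiv.Perm (Fin n)) V] (a : ℕ) (v : V) : Prop :=
  toPerm n a • v = -v

/-- the relation `a v = v` -/
def rf (p a : ℕ) : FS := [(1, a), (p - 1, idc)]

/-- the relation `a v = - v` -/
def ra (a : ℕ) : FS := [(1, a), (1, idc)]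

theorem pred_smul (hp : ∀ v : V, p • v = 0) (hp0 : 0 < p) (v : V) : (p - 1) • v = -v := by
  have h1 : (p - 1) • v + v = 0 := by rw [← succ_nsmul, Nat.sub_add_cancel hp0, hp]
  exact eq_neg_of_add_eq_zero_left h1

theorem ev_rf (hn : n ≤ 10) (hp : ∀ v : V, p • v = 0) (hp0 : 0 < p) {a : ℕ} {v : V} :
    ev n v (rf p a) = 0 ↔ Fx n a v := by
  simp only [rf, ev_cons, ev_nil, toPerm_idc hn, one_smul, add_zero, pred_smul hp hp0, Fx]
  rw [add_neg_eq_zero]

theorem ev_ra (hn : n ≤ 10) {a : ℕ} {v : V} : ev n v (ra a) = 0 ↔ An n a v := by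
  simp only [ra, ev_cons, ev_nil, toPerm_idc hn, one_smul, add_zero, An]
  rw [add_eq_zero_iff_eq_neg]

/-- The value of `l` is fixed by `a` if a certificate says so. -/
theorem fx_of_check (hn : n ≤ 10) (hp : ∀ v : V, p • v = 0) (hp0 : 0 < p) {v : V} {kf : ℕ → ℕ → ℕ}
    (hk : KeyOK n v kf) {rels : List FS} (hz : ∀ r ∈ rels, ev n v r = 0) {a : ℕ} (ha : okc n a = true) {l : FS}
    (hl : okFS n l = true) {ta : List (ℕ × ℕ × ℕ)} (ca : check n p kf rels ta (lm a l ++ sc (p - 1) l) = true) :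
    Fx n a (ev n v l) :=
  smul_ev_of hn hp v ha hl hp0 (sound hn hp hk hz ca)

/-- The value of `l` is negated by `a` if a certificate says so. -/
theorem an_of_check (hn : n ≤ 10) (hp : ∀ v : V, p • v = 0) {v : V} {kf : ℕ → ℕ → ℕ}
    (hk : KeyOK n v kf) {rels : List FS} (hz : ∀ r ∈ rels, ev n v r = 0) {a : ℕ} (ha : okc n a = true) {l : FS}
    (hl : okFS n l = true) {ta : List (ℕ × ℕ × ℕ)} (ca : check n p kf rels ta (lm a l ++ l) = true) :
    An n a (ev n v l) := by
  have h := sound hn hp hk hz ca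
  rw [ev_append, ev_lm hn v ha l hl] at h
  exact eq_neg_of_add_eq_zero_left h

theorem NF.zero (hNF : NF n V) (hn : n ≤ 10) {a b i : ℕ} {w₁ w₂ w₃ w₄ : List Bool}
    (h : nsB n a b i w₁ w₂ w₃ w₄ = true) {v : V} (ha : Fx n a v) (hb : Fx n b v) : v = 0 :=
  hNF _ _ (not_solvable hn h) v ha hb

/-- The value of `l` vanishes if certificates say that it is fixed by a nonsolvable group. -/
theorem NF.kill (hNF : NF n V) (hn : n ≤ 10) (hp : ∀ v : V, p • v = 0) (hp0 : 0 < p) {v : V} {kf : ℕ → ℕ → ℕ}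
    (hk : KeyOK n v kf) {rels : List FS} (hz : ∀ r ∈ rels, ev n v r = 0) {a b i : ℕ} {w₁ w₂ w₃ w₄ : List Bool}
    (h : nsB n a b i w₁ w₂ w₃ w₄ = true) {l : FS} (hl : okFS n l = true) {ta tb : List (ℕ × ℕ × ℕ)}
    (ca : check n p kf rels ta (lm a l ++ sc (p - 1) l) = true)
    (cb : check n p kf rels tb (lm b l ++ sc (p - 1) l) = true) : ev n v l = 0 := by
  have h' := h
  simp only [nsB, Bool.and_eq_true] at h'
  exact hNF.zero hn h (fx_of_check hn hp hp0 hk hz h'.1.1 hl ca) (fx_of_check hn hp hp0 hk hz h'.1.2 hl cb)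

end

end Cfsg.Agent.H196.GA
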