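import Mathlib
import Cfsg.Agent.H196.PlusStd
import Cfsg.Agent.LieClassical.QuadCount

/-!
# Orders of the pointwise stabilisers of totally isotropic subspaces of the plus-type form
-/

set_option autoImplicit false
set_option linter.unusedSectionVars false

namespace Cfsg.Agent.H196

open QuadraticMap Matrix Module
open Cfsg.Agent.ClassicalGeometry.Reflection
open Cfsg.Agent.ClassicalGeometry.OrthCharTwo
open Cfsg.Agent.H177.InvolGroup
open Cfsg.Agent.H177.InvolForms
open Cfsg.Agent.LieClassical.OrthForms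

variable {ι : Type} [Fintype ι] [DecidableEq ι] {F : Type*} [Field F]

theorem card_ne_zero_sing [Finite F] (n : ℕ) :
    Nat.card {u : Fin n ⊕ Fin n → F // u ≠ 0 ∧ Cfsg.quadFormPlus n F u = 0} + 1
      = Nat.card {u : Fin n ⊕ Fin n → F // Cfsg.quadFormPlus n F u = 0} := by
  classical
  have h0 : Cfsg.quadFormPlus n F (0 : Fin n ⊕ Fin n → F) = 0 := by
    rw [quadFormPlus_apply]
    simp
  let e : Option {u : Fin n ⊕ Fin n → F // u ≠ 0 ∧ Cfsg.quadFormPlus n F u = 0} ≃
      {u : Fin n ⊕ Fin n → F // Cfsg.quadFormPlus n F u = 0} :=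
    { toFun := fun o => o.elim ⟨0, h0⟩ fun u => ⟨u.1, u.2.2⟩
      invFun := fun u => if h : u.1 = 0 then none else some ⟨u.1, h, u.2⟩
      left_inv := fun o => by
        rcases o with _ | ⟨u, hu, hu'⟩
        · simp
        · simp [hu]
      right_inv := fun u => by
        by_cases h : u.1 = 0
        · simp only [h, dite_true, Option.elim_none]
          exact Subtype.ext h.symm
        · simp [h] }
  rw [← Nat.card_congr e, Finite.card_option]

theorem range_succ (k : ℕ) : (k + 1) * (k + 1 - 1) / 2 = k * (k - 1) / 2 + k := by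
  rw [← Nat.choose_two_right, ← Nat.choose_two_right, Nat.choose_succ_succ' k 1, Nat.choose_one_right,
    add_comm]

/-- **The pointwise stabiliser of the standard totally singular `k`-space.** -/
theorem card_fixing_std [Fintype F] (k : ℕ) : ∀ m n : ℕ, m = k + n →
    Nat.card (fixing (⇑(plusForm m F)) (stdS m k F))
      = Nat.card F ^ (k * (k - 1) / 2 + 2 * k * n) *
        Nat.card (Cfsg.isometryGroup F (Cfsg.quadFormPlus n F)) := by
  induction k with
  | zero =>
    intro m n hmn
    obtain rfl : m = n := by omega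
    rw [stdS_zero, fixing_bot, Nat.card_congr Subgroup.topEquiv.toEquiv, coe_plusForm]
    simp
  | succ k ih =>
    intro m n hmn
    have h1 := ih m (n + 1) (by omega)
    have hk : k < m := by omega
    rw [card_fixing_step (plusForm m F) (plus_nondegenerate m F) (stdS m k F) (px m F ⟨k, hk⟩)
      (px_notMem hk), ← stdS_succ hk, Cfsg.Agent.S0287.step n] at h1
    have h2 : Nat.card {w : Fin m ⊕ Fin m → F // w ∉ stdS m k F ∧
        plusForm m F w = plusForm m F (px m F ⟨k, hk⟩) ∧ ∀ x ∈ stdS m k F,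
          polar (plusForm m F) x w = polar (plusForm m F) x (px m F ⟨k, hk⟩)}
        = Nat.card F ^ k * Nat.card {u : Fin (n + 1) ⊕ Fin (n + 1) → F //
            u ≠ 0 ∧ Cfsg.quadFormPlus (n + 1) F u = 0} := by
      have hm : m = k + (n + 1) := by omega
      subst hm
      rw [← card_ext]
      apply Nat.card_congr
      refine Equiv.subtypeEquivRight fun w => ?_
      rw [Q_px]
      have h3 : ∀ x ∈ stdS (k + (n + 1)) k F,
          polar (plusForm (k + (n + 1)) F) x (px (k + (n + 1)) F ⟨k, hk⟩) = 0 := by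
        rw [polar_stdS_iff]
        intro i _
        simp [px]
      exact and_congr_right fun _ => and_congr_right fun _ =>
        ⟨fun h x hx => (h x hx).trans (h3 x hx), fun h x hx => (h x hx).trans (h3 x hx).symm⟩
    have h4 := card_ne_zero_sing (F := F) (n + 1)
    set a := Nat.card {u : Fin (n + 1) ⊕ Fin (n + 1) → F //
            u ≠ 0 ∧ Cfsg.quadFormPlus (n + 1) F u = 0} with ha
    have h5 : Nat.card {u : Fin (n + 1) ⊕ Fin (n + 1) → F //
        Cfsg.quadFormPlus (n + 1) F u = 0} - 1 = a := by omega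
    rw [h2, h5] at h1
    have ha0 : 0 < a := by
      rw [ha]
      apply Nat.card_pos_iff.2
      refine ⟨⟨⟨px (n + 1) F 0, ?_, ?_⟩⟩, inferInstance⟩
      · intro h
        have := congrFun h (Sum.inl 0)
        simp [px] at this
      · have := Q_px (F := F) (n + 1) 0
        rwa [coe_plusForm] at this
    have hq : 0 < Nat.card F := Nat.card_pos
    have h6 : Nat.card F ^ k * a ≠ 0 := by positivity
    apply Nat.eq_of_mul_eq_mul_left (Nat.pos_of_ne_zero h6)
    rw [h1, range_succ]
    have h7 : k * (k - 1) / 2 + 2 * k * (n + 1) + 2 * n = k + (k * (k - 1) / 2 + k + 2 * (k + 1) * n) := by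
      ring
    calc _ = a * (Nat.card F ^ (k * (k - 1) / 2 + 2 * k * (n + 1) + 2 * n)) *
          Nat.card (Cfsg.isometryGroup F (Cfsg.quadFormPlus n F)) := by
          rw [pow_add (Nat.card F) (k * (k - 1) / 2 + 2 * k * (n + 1))]; ring
      _ = _ := by
          rw [h7, pow_add (Nat.card F) k]; ring

/-- the number of vectors of the plus-type form with a given non-zero value -/
theorem card_value [Fintype F] (n : ℕ) (hn : 1 ≤ n) (c : F) (hc : c ≠ 0) :
    Nat.card {u : Fin n ⊕ Fin n → F // u ≠ 0 ∧ Cfsg.quadFormPlus n F u = c}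
      = Nat.card F ^ (n - 1) * (Nat.card F ^ n - 1) := by
  classical
  have h1 := Cfsg.Agent.LieClassical.QuadCount.card_plus (F := F) n c
  rw [if_neg hc, add_zero, ← Nat.card_eq_fintype_card] at h1
  have h2 : Nat.card {u : Fin n ⊕ Fin n → F // u ≠ 0 ∧ Cfsg.quadFormPlus n F u = c}
      = Nat.card {u : Fin n ⊕ Fin n → F // Cfsg.quadFormPlus n F u = c} := by
    apply Nat.card_congr
    refine Equiv.subtypeEquivRight fun w => ?_
    refine and_iff_right_of_imp fun h => ?_
    rintro rfl
    apply hc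
    rw [← h, quadFormPlus_apply]
    simp
  rw [h2]
  have hq : 0 < Nat.card F := Nat.card_pos
  obtain ⟨n, rfl⟩ : ∃ k, n = k + 1 := ⟨n - 1, by omega⟩
  apply Nat.eq_of_mul_eq_mul_left hq
  have h3 : 1 ≤ Nat.card F ^ (n + 1) := Nat.one_le_pow _ _ hq
  obtain ⟨y, hy⟩ : ∃ y, Nat.card F ^ (n + 1) = y + 1 := ⟨_, (Nat.sub_add_cancel h3).symm⟩
  have h4 : Nat.card F * (Nat.card F ^ n * y) = (y + 1) * y := by
    rw [← hy, pow_succ]; ring
  have h5 : Nat.card F ^ (2 * (n + 1)) = (y + 1) * (y + 1) := by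
    rw [← hy, two_mul, pow_add]
  rw [Nat.add_sub_cancel, hy, Nat.add_sub_cancel, h4]
  rw [h5, hy] at h1
  linarith [h1]

theorem Q_add (Q : QuadraticForm F (ι → F)) (x y : ι → F) : Q (x + y) = Q x + Q y + polar Q x y := by
  rw [polar]; ring

theorem Q_smul (Q : QuadraticForm F (ι → F)) (c : F) (x : ι → F) : Q (c • x) = c * c * Q x :=
  QuadraticMap.map_smul Q c x

theorem exists_iso_map (Q : QuadraticForm F (ι → F)) (hQ : (polarBilin Q).Nondegenerate)
    (M M' : Submodule F (ι → F)) (hM : ∀ x ∈ M, Q x = 0) (hM' : ∀ x ∈ M', Q x = 0)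
    (hd : finrank F M = finrank F M') :
    ∃ g : Cfsg.isometryGroup F (⇑Q), M.map (actEquiv g : (ι → F) →ₗ[F] (ι → F)) = M' := by
  let φ : M ≃ₗ[F] M' := LinearEquiv.ofFinrankEq M M' hd
  obtain ⟨e, he, heφ⟩ := Cfsg.Agent.ClassicalGeometry.WittQuad.extend Q hQ M M' φ
    (fun x => by rw [hM _ x.2, hM' _ (φ x).2])
  obtain ⟨g, hg⟩ := exists_iso (⇑Q) e he
  refine ⟨g, ?_⟩
  ext y
  rw [Submodule.mem_map]
  constructor
  · rintro ⟨x, hx, rfl⟩
    rw [LinearEquiv.coe_coe, actEquiv_apply, hg, heφ ⟨x, hx⟩]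
    exact (φ _).2
  · intro hy
    refine ⟨φ.symm ⟨y, hy⟩, (φ.symm _).2, ?_⟩
    rw [LinearEquiv.coe_coe, actEquiv_apply, hg, heφ, LinearEquiv.apply_symm_apply]

/-- **The pointwise stabiliser of a totally singular `k`-space of the plus-type form.** -/
theorem card_fixing_singular [Fintype F] (k m n : ℕ) (hm : m = k + n)
    (M : Submodule F (Fin m ⊕ Fin m → F)) (hM : ∀ x ∈ M, plusForm m F x = 0)
    (hd : finrank F M = k) :
    Nat.card (fixing (⇑(plusForm m F)) M)
      = Nat.card F ^ (k * (k - 1) / 2 + 2 * k * n) *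
        Nat.card (Cfsg.isometryGroup F (Cfsg.quadFormPlus n F)) := by
  obtain ⟨g, hg⟩ := exists_iso_map (plusForm m F) (plus_nondegenerate m F) M (stdS m k F) hM
    (fun x hx => stdS_singular hx) (by rw [hd, finrank_stdS (by omega)])
  rw [← card_fixing_std k m n hm, ← hg, card_fixing_map]

/-- the number of non-singular extensions of a totally singular space -/
theorem card_ext_singular [Fintype F] (k m n : ℕ) (hm : m = k + n) (hn : 1 ≤ n)
    (M : Submodule F (Fin m ⊕ Fin m → F)) (hM : ∀ x ∈ M, plusForm m F x = 0)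
    (hd : finrank F M = k) (c : F) (hc : c ≠ 0) :
    Nat.card {w : Fin m ⊕ Fin m → F // w ∉ M ∧ plusForm m F w = c ∧
        ∀ x ∈ M, polar (plusForm m F) x w = 0}
      = Nat.card F ^ k * (Nat.card F ^ (n - 1) * (Nat.card F ^ n - 1)) := by
  obtain ⟨g, hg⟩ := exists_iso_map (plusForm m F) (plus_nondegenerate m F) M (stdS m k F) hM
    (fun x hx => stdS_singular hx) (by rw [hd, finrank_stdS (by omega)])
  subst hm
  rw [← card_value n hn c hc, ← card_ext]
  refine Nat.card_congr (Equiv.subtypeEquiv (actEquiv g).toEquiv fun w => ?_)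
  have h1 : (actEquiv g).toEquiv w = act g w := rfl
  rw [h1, Q_act (Q := ⇑(plusForm (k + n) F)), ← hg]
  refine and_congr ?_ (and_congr_right fun _ => ?_)
  · rw [not_iff_not]
    constructor
    · intro hw
      exact Submodule.mem_map_of_mem hw
    · rintro ⟨y, hy, hyw⟩
      rw [LinearEquiv.coe_coe, actEquiv_apply] at hyw
      have := congrArg (act g⁻¹) hyw
      rw [act_inv_act, act_inv_act] at this
      rwa [← this]
  · constructor
    · rintro h _ ⟨y, hy, rfl⟩
      rw [LinearEquiv.coe_coe, actEquiv_apply]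
      exact (polar_act (Q := ⇑(plusForm (k + n) F)) g y w).trans (h y hy)
    · intro h x hx
      rw [← polar_act (Q := ⇑(plusForm (k + n) F)) g x w]
      exact h _ (Submodule.mem_map_of_mem hx)

/-- the totally singular part of a totally isotropic space, in characteristic two -/
theorem exists_singular_part [Finite F] [CharP F 2] (Q : QuadraticForm F (ι → F))
    (M : Submodule F (ι → F)) (hM : ∀ x ∈ M, ∀ y ∈ M, polar Q x y = 0) (u : ι → F) (hu : u ∈ M)
    (hu0 : Q u ≠ 0) :
    ∃ M₀ : Submodule F (ι → F), (∀ x ∈ M₀, Q x = 0) ∧ M₀ ⊔ Submodule.span F {u} = M ∧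
      finrank F M₀ + 1 = finrank F M ∧ u ∉ M₀ ∧ ∀ x ∈ M₀, polar Q x u = 0 := by
  let M₀ : Submodule F (ι → F) :=
    { carrier := {x | x ∈ M ∧ Q x = 0}
      add_mem' := fun {x y} hx hy => ⟨M.add_mem hx.1 hy.1, by
        rw [Q_add, hx.2, hy.2, hM x hx.1 y hy.1, add_zero, add_zero]⟩
      zero_mem' := ⟨M.zero_mem, QuadraticMap.map_zero Q⟩
      smul_mem' := fun c x hx => ⟨M.smul_mem c hx.1, by rw [Q_smul, hx.2, mul_zero]⟩ }
  have hM₀ : ∀ x, x ∈ M₀ ↔ x ∈ M ∧ Q x = 0 := fun x => Iff.rfl
  have hsup : M₀ ⊔ Submodule.span F {u} = M := by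
    apply le_antisymm
    · rw [sup_le_iff, Submodule.span_singleton_le_iff_mem]
      exact ⟨fun x hx => hx.1, hu⟩
    · intro x hx
      obtain ⟨c, hc⟩ := Cfsg.Agent.H176.SymmCharTwo.exists_sq (Q x * (Q u)⁻¹)
      rw [Submodule.mem_sup]
      refine ⟨x + c • u, ⟨M.add_mem hx (M.smul_mem c hu), ?_⟩, c • u,
        Submodule.smul_mem _ _ (Submodule.mem_span_singleton_self u), ?_⟩
      · rw [Q_add, Q_smul, hc, polar_smul_right, hM x hx u hu, smul_zero, add_zero, mul_assoc,
          inv_mul_cancel₀ hu0, mul_one, CharTwo.add_self_eq_zero]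
      · funext i
        simp only [Pi.add_apply, add_assoc, CharTwo.add_self_eq_zero, add_zero]
  have hinf : M₀ ⊓ Submodule.span F {u} = ⊥ := by
    rw [eq_bot_iff]
    rintro x ⟨hx1, hx2⟩
    obtain ⟨c, rfl⟩ := Submodule.mem_span_singleton.1 hx2
    have h1 := hx1.2
    rw [Q_smul] at h1
    have h2 : c = 0 := by
      rcases mul_eq_zero.1 h1 with h | h
      · exact mul_self_eq_zero.1 h
      · exact absurd h hu0
    rw [h2, zero_smul]
    exact Submodule.zero_mem _
  have hu00 : u ≠ 0 := by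
    rintro rfl
    exact hu0 (QuadraticMap.map_zero Q)
  refine ⟨M₀, fun x hx => hx.2, hsup, ?_, fun h => hu0 h.2, fun x hx => hM x hx.1 u hu⟩
  have h3 := Submodule.finrank_sup_add_finrank_inf_eq M₀ (Submodule.span F {u})
  rw [hsup, hinf, finrank_bot, finrank_span_singleton hu00] at h3
  omega

/-- **The pointwise stabiliser of a totally isotropic, not totally singular `(k+1)`-space of the
plus-type form in characteristic two.** -/
theorem card_fixing_nonsingular [Fintype F] [CharP F 2] (k m n : ℕ) (hm : m = k + (n + 1))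
    (M : Submodule F (Fin m ⊕ Fin m → F)) (hM : ∀ x ∈ M, ∀ y ∈ M, polar (plusForm m F) x y = 0)
    (u : Fin m ⊕ Fin m → F) (hu : u ∈ M) (hu0 : plusForm m F u ≠ 0) (hd : finrank F M = k + 1) :
    Nat.card F ^ k * Nat.card (fixing (⇑(plusForm m F)) M)
      = 2 * Nat.card F ^ (k * (k - 1) / 2 + 2 * k * (n + 1)) *
        (Nat.card F ^ (n ^ 2) * ∏ i ∈ Finset.range n, (Nat.card F ^ (2 * (i + 1)) - 1)) := by
  obtain ⟨M₀, h1, h2, h3, h4, h5⟩ := exists_singular_part (plusForm m F) M hM u hu hu0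
  have h6 := card_fixing_singular k m (n + 1) hm M₀ h1 (by omega)
  rw [card_fixing_step (plusForm m F) (plus_nondegenerate m F) M₀ u h4, h2] at h6
  have h7 : Nat.card {w : Fin m ⊕ Fin m → F // w ∉ M₀ ∧ plusForm m F w = plusForm m F u ∧
      ∀ x ∈ M₀, polar (plusForm m F) x w = polar (plusForm m F) x u}
      = Nat.card F ^ k * (Nat.card F ^ n * (Nat.card F ^ (n + 1) - 1)) := by
    have h8 := card_ext_singular k m (n + 1) hm (by omega) M₀ h1 (by omega) _ hu0
    rw [Nat.add_sub_cancel] at h8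
    rw [← h8]
    apply Nat.card_congr
    refine Equiv.subtypeEquivRight fun w => and_congr_right fun _ => and_congr_right fun _ => ?_
    exact ⟨fun h x hx => (h x hx).trans (h5 x hx), fun h x hx => (h x hx).trans (h5 x hx).symm⟩
  have hF : Fintype.card F = Nat.card F := Nat.card_eq_fintype_card.symm
  rw [h7, Cfsg.Agent.S0287.result hF (n + 1) (by omega), Nat.add_sub_cancel] at h6
  have hq : 1 < Nat.card F := Finite.one_lt_card
  have h9 : 0 < Nat.card F ^ (n + 1) - 1 := Nat.sub_pos_of_lt (Nat.one_lt_pow (by omega) hq)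
  have h10 : 0 < Nat.card F ^ n * (Nat.card F ^ (n + 1) - 1) := by positivity
  apply Nat.eq_of_mul_eq_mul_left h10
  have h11 : (n + 1) * n = n + n ^ 2 := by ring
  rw [h11, pow_add (Nat.card F) n (n ^ 2)] at h6
  calc _ = Nat.card F ^ k * (Nat.card F ^ n * (Nat.card F ^ (n + 1) - 1)) *
          Nat.card (fixing (⇑(plusForm m F)) M) := by ring
    _ = _ := by rw [h6]; ring

end Cfsg.Agent.H196
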