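import Cfsg.Agent.H196.TwoData

/-!
# The prime 2: modules of the symmetric group of degree 9

Every module of characteristic 2 for `Equiv.Perm (Fin 9)` without nonzero vectors fixed by nonsolvable subgroups is
zero (`Cfsg.Agent.H196.Two.two`).
-/

set_option autoImplicit false

namespace Cfsg.Agent.H196.GA

/-- the condition on a new generator `g` for `exists_fx_cons` -/
def stepB (n : ℕ) (L : List ℕ) (g : ℕ) : Bool :=
  and (and (okc n g) (Nat.beq (comp g g) idc))
    (L.all fun x => and (okc n x) (L.any fun y => Nat.beq (comp x g) (comp g y)))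

theorem exists_fx_cons {n : ℕ} {V : Type*} [AddCommGroup V] [DistribMulAction (Equiv.Perm (Fin n)) V] (hn : n ≤ 10)
    (hp : ∀ v : V, 2 • v = 0) (L : List ℕ) (g : ℕ) (h : stepB n L g = true) {v : V} (hv : v ≠ 0)
    (hfix : ∀ x ∈ L, Fx n x v) : ∃ w : V, w ≠ 0 ∧ ∀ x ∈ g :: L, Fx n x w := by
  simp only [stepB, Bool.and_eq_true, List.all_eq_true, List.any_eq_true] at h
  obtain ⟨⟨hg, hgg⟩, hL⟩ := h
  have hgg' := (comp_ok hn hg hg).2
  rw [Nat.eq_of_beq_eq_true hgg, toPerm_idc hn] at hgg'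
  have hneg : ∀ u : V, u + u = 0 := fun u => by rw [← two_smul ℕ]; exact hp u
  have h2 : toPerm n g • (toPerm n g • v) = v := by rw [← mul_smul, ← hgg', one_smul]
  by_cases h0 : v + toPerm n g • v = 0
  · refine ⟨v, hv, fun x hx => ?_⟩
    rcases List.mem_cons.1 hx with rfl | hx
    · unfold Fx
      rw [← sub_eq_zero, sub_eq_add_neg, ← eq_neg_of_add_eq_zero_left (hneg v), add_comm]
      exact h0
    · exact hfix x hx
  · refine ⟨_, h0, fun x hx => ?_⟩
    rcases List.mem_cons.1 hx with rfl | hx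
    · unfold Fx
      rw [smul_add, h2, add_comm]
    · obtain ⟨hx1, y, hy, hxy⟩ := hL x hx
      have hy1 := (hL y hy).1
      have h3 := (comp_ok hn hx1 hg).2
      rw [Nat.eq_of_beq_eq_true hxy, (comp_ok hn hg hy1).2] at h3
      have h4 : toPerm n y • v = v := hfix y hy
      have h5 : toPerm n x • v = v := hfix x hx
      unfold Fx
      rw [smul_add, h5, ← mul_smul, ← h3, mul_smul, h4]

end Cfsg.Agent.H196.GA

namespace Cfsg.Agent.H196.Two

open Cfsg.Agent.H196.GA

variable {V : Type*} [AddCommGroup V] [DistribMulAction (Equiv.Perm (Fin 9)) V]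

theorem exists_fx (hp : ∀ v : V, 2 • v = 0) {v : V} (hv : v ≠ 0) : ∃ w : V, w ≠ 0 ∧ ∀ x ∈ T, Fx 9 x w := by
  obtain ⟨w0, h0, f0⟩ := exists_fx_cons (n := 9) (by norm_num) hp [] 0x9876543201 (by decide) hv (by simp)
  obtain ⟨w1, h1, f1⟩ := exists_fx_cons (n := 9) (by norm_num) hp _ 0x9876542310 (by decide) h0 f0
  obtain ⟨w2, h2, f2⟩ := exists_fx_cons (n := 9) (by norm_num) hp _ 0x9876453210 (by decide) h1 f1
  obtain ⟨w3, h3, f3⟩ := exists_fx_cons (n := 9) (by norm_num) hp _ 0x9867543210 (by decide) h2 f2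
  obtain ⟨w4, h4, f4⟩ := exists_fx_cons (n := 9) (by norm_num) hp _ 0x9876541032 (by decide) h3 f3
  obtain ⟨w5, h5, f5⟩ := exists_fx_cons (n := 9) (by norm_num) hp _ 0x9854763210 (by decide) h4 f4
  obtain ⟨w6, h6, f6⟩ := exists_fx_cons (n := 9) (by norm_num) hp _ 0x9832107654 (by decide) h5 f5
  refine ⟨w6, h6, fun x hx => f6 x ?_⟩
  simp only [T, List.mem_cons, List.not_mem_nil, or_false] at hx ⊢
  tauto

/-- The conditions on a relation: it is an orbit sum of the nonsolvable group generated by `a` and `b`. -/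
theorem kill (hp : ∀ v : V, 2 • v = 0) (hNF : NF 9 V) {v : V} (h : ∀ x ∈ T, Fx 9 x v) {a b i : ℕ}
    {w₁ w₂ w₃ w₄ : List Bool} (hw : nsB 9 a b i w₁ w₂ w₃ w₄ = true) {l : FS} (hl : okFS 9 l = true)
    (ca : check 9 2 key [] [] (lm a l ++ sc 1 l) = true)
    (cb : check 9 2 key [] [] (lm b l ++ sc 1 l) = true) : ev 9 v l = 0 :=
  hNF.kill (by norm_num) hp (by norm_num) (keyOK h) (by simp) hw hl (ta := []) (tb := []) ca cb

theorem z0 (hp : ∀ v : V, 2 • v = 0) (hNF : NF 9 V) {v : V} (h : ∀ x ∈ T, Fx 9 x v) : ev 9 v r0 = 0 :=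
  kill hp hNF h (a := 0x9876501423) (b := 0x9876504321) (i := 0) (w₁ := [false, true]) (w₂ := [false])
    (w₃ := [true, false]) (w₄ := [true]) (by decide +kernel) (by decide +kernel) (by decide +kernel) (by decide +kernel)

theorem z1 (hp : ∀ v : V, 2 • v = 0) (hNF : NF 9 V) {v : V} (h : ∀ x ∈ T, Fx 9 x v) : ev 9 v r1 = 0 :=
  kill hp hNF h (a := 0x9876501423) (b := 0x9876504321) (i := 0) (w₁ := [false, true]) (w₂ := [false])
    (w₃ := [true, false]) (w₄ := [true]) (by decide +kernel) (by decide +kernel) (by decide +kernel) (by decide +kernel)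

theorem z2 (hp : ∀ v : V, 2 • v = 0) (hNF : NF 9 V) {v : V} (h : ∀ x ∈ T, Fx 9 x v) : ev 9 v r2 = 0 :=
  kill hp hNF h (a := 0x9876105243) (b := 0x9876532104) (i := 0) (w₁ := [false, true]) (w₂ := [false])
    (w₃ := [true, false]) (w₄ := [true]) (by decide +kernel) (by decide +kernel) (by decide +kernel) (by decide +kernel)

theorem z3 (hp : ∀ v : V, 2 • v = 0) (hNF : NF 9 V) {v : V} (h : ∀ x ∈ T, Fx 9 x v) : ev 9 v r3 = 0 :=
  kill hp hNF h (a := 0x9847512603) (b := 0x9861257034) (i := 0) (w₁ := [false, false, true, false, true, false]) (w₂ := [true])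
    (w₃ := [true, false]) (w₄ := [true]) (by decide +kernel) (by decide +kernel) (by decide +kernel) (by decide +kernel)

theorem z4 (hp : ∀ v : V, 2 • v = 0) (hNF : NF 9 V) {v : V} (h : ∀ x ∈ T, Fx 9 x v) : ev 9 v r4 = 0 :=
  kill hp hNF h (a := 0x9847512603) (b := 0x9861257034) (i := 0) (w₁ := [false, false, true, false, true, false]) (w₂ := [true])
    (w₃ := [true, false]) (w₄ := [true]) (by decide +kernel) (by decide +kernel) (by decide +kernel) (by decide +kernel)

theorem z5 (hp : ∀ v : V, 2 • v = 0) (hNF : NF 9 V) {v : V} (h : ∀ x ∈ T, Fx 9 x v) : ev 9 v r5 = 0 :=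
  kill hp hNF h (a := 0x9876501423) (b := 0x9876504321) (i := 0) (w₁ := [false, true]) (w₂ := [false])
    (w₃ := [true, false]) (w₄ := [true]) (by decide +kernel) (by decide +kernel) (by decide +kernel) (by decide +kernel)

theorem z6 (hp : ∀ v : V, 2 • v = 0) (hNF : NF 9 V) {v : V} (h : ∀ x ∈ T, Fx 9 x v) : ev 9 v r6 = 0 :=
  kill hp hNF h (a := 0x9876105243) (b := 0x9876532104) (i := 0) (w₁ := [false, true]) (w₂ := [false])
    (w₃ := [true, false]) (w₄ := [true]) (by decide +kernel) (by decide +kernel) (by decide +kernel) (by decide +kernel)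

theorem z7 (hp : ∀ v : V, 2 • v = 0) (hNF : NF 9 V) {v : V} (h : ∀ x ∈ T, Fx 9 x v) : ev 9 v r7 = 0 :=
  kill hp hNF h (a := 0x9876105243) (b := 0x9876532104) (i := 0) (w₁ := [false, true]) (w₂ := [false])
    (w₃ := [true, false]) (w₄ := [true]) (by decide +kernel) (by decide +kernel) (by decide +kernel) (by decide +kernel)

theorem z8 (hp : ∀ v : V, 2 • v = 0) (hNF : NF 9 V) {v : V} (h : ∀ x ∈ T, Fx 9 x v) : ev 9 v r8 = 0 :=
  kill hp hNF h (a := 0x9876105243) (b := 0x9876532104) (i := 0) (w₁ := [false, true]) (w₂ := [false])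
    (w₃ := [true, false]) (w₄ := [true]) (by decide +kernel) (by decide +kernel) (by decide +kernel) (by decide +kernel)

theorem z9 (hp : ∀ v : V, 2 • v = 0) (hNF : NF 9 V) {v : V} (h : ∀ x ∈ T, Fx 9 x v) : ev 9 v r9 = 0 :=
  kill hp hNF h (a := 0x9876105243) (b := 0x9876532104) (i := 0) (w₁ := [false, true]) (w₂ := [false])
    (w₃ := [true, false]) (w₄ := [true]) (by decide +kernel) (by decide +kernel) (by decide +kernel) (by decide +kernel)

theorem z10 (hp : ∀ v : V, 2 • v = 0) (hNF : NF 9 V) {v : V} (h : ∀ x ∈ T, Fx 9 x v) : ev 9 v r10 = 0 :=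
  kill hp hNF h (a := 0x9876105243) (b := 0x9876532104) (i := 0) (w₁ := [false, true]) (w₂ := [false])
    (w₃ := [true, false]) (w₄ := [true]) (by decide +kernel) (by decide +kernel) (by decide +kernel) (by decide +kernel)

theorem z11 (hp : ∀ v : V, 2 • v = 0) (hNF : NF 9 V) {v : V} (h : ∀ x ∈ T, Fx 9 x v) : ev 9 v r11 = 0 :=
  kill hp hNF h (a := 0x9876105243) (b := 0x9876532104) (i := 0) (w₁ := [false, true]) (w₂ := [false])
    (w₃ := [true, false]) (w₄ := [true]) (by decide +kernel) (by decide +kernel) (by decide +kernel) (by decide +kernel)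

theorem z12 (hp : ∀ v : V, 2 • v = 0) (hNF : NF 9 V) {v : V} (h : ∀ x ∈ T, Fx 9 x v) : ev 9 v r12 = 0 :=
  kill hp hNF h (a := 0x9712683450) (b := 0x9610754382) (i := 1) (w₁ := [false, false, false]) (w₂ := [false, true, true])
    (w₃ := [true, true, false]) (w₄ := [true, true]) (by decide +kernel) (by decide +kernel) (by decide +kernel) (by decide +kernel)

/-- **The prime 2.** -/
theorem two (hp : ∀ v : V, 2 • v = 0) (hNF : NF 9 V) (v : V) : v = 0 := by
  by_contra hv
  obtain ⟨w, hw, hf⟩ := exists_fx hp hv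
  have hz : ∀ r ∈ rels, ev 9 w r = 0 := by
    intro r hr
    simp only [rels, List.mem_cons, List.not_mem_nil, or_false] at hr
    rcases hr with rfl | rfl | rfl | rfl | rfl | rfl | rfl | rfl | rfl | rfl | rfl | rfl | rfl
    · exact z0 hp hNF hf
    · exact z1 hp hNF hf
    · exact z2 hp hNF hf
    · exact z3 hp hNF hf
    · exact z4 hp hNF hf
    · exact z5 hp hNF hf
    · exact z6 hp hNF hf
    · exact z7 hp hNF hf
    · exact z8 hp hNF hf
    · exact z9 hp hNF hf
    · exact z10 hp hNF hf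
    · exact z11 hp hNF hf
    · exact z12 hp hNF hf
  have h := sound (by norm_num) hp (keyOK hf) hz main
  rw [ev_cons, ev_nil, toPerm_idc (by norm_num), one_smul, one_smul, add_zero] at h
  exact hw h

end Cfsg.Agent.H196.Two
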